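import Cfsg.Agent.H13.CT.Eigen
import Cfsg.Agent.H42.SingerCentralizer

/-!
# Coprime transitive linear groups: the context

`H13.CT.Ctx`: a transitive `p'`-subgroup of `GL(n, p)` with a prime `r` modulo which `p` has order
`n`.
-/

set_option autoImplicit false
set_option linter.unusedSectionVars false
set_option linter.unusedVariables false
set_option linter.style.haveILetI false

open Cfsg Module
open scoped commutatorElement

namespace H13.CT

universe u

/-- The hypothesis on `f`. -/
structure Hyp (p : ℕ) {G : Type u} [Group G] {n : ℕ}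
    (f : G →* Matrix (Fin n) (Fin n) (ZMod p)) : Prop where
  cop : ¬ p ∣ Nat.card G
  inj : Function.Injective f
  trans : ∀ v w : Fin n → ZMod p, v ≠ 0 → w ≠ 0 → ∃ g : G, (f g).mulVec v = w

variable {p : ℕ} [hp : Fact p.Prime] {G : Type u} [Group G] [Finite G] {n : ℕ}
  {f : G →* Matrix (Fin n) (Fin n) (ZMod p)}

theorem toHomUnits_injective (h : Hyp p f) : Function.Injective f.toHomUnits := fun a b hab =>
  h.inj (congrArg Units.val hab)

/-- The order is divisible by the number of non-zero vectors. -/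
theorem Hyp.dvd_card (h : Hyp p f) (hn : 1 ≤ n) : p ^ n - 1 ∣ Nat.card G := by
  classical
  haveI : Nonempty (Fin n) := ⟨⟨0, hn⟩⟩
  let X := {v : Fin n → ZMod p // v ≠ 0}
  have hmul : ∀ (g : G) (v : X), (f g).mulVec v.1 ≠ 0 := fun g v hv => v.2 (by
    have := congrArg (f g⁻¹).mulVec hv
    rwa [Matrix.mulVec_mulVec, ← map_mul, inv_mul_cancel, map_one, Matrix.one_mulVec,
      Matrix.mulVec_zero] at this)
  letI : MulAction G X :=
    { smul := fun g v => ⟨(f g).mulVec v.1, hmul g v⟩
      one_smul := fun v => Subtype.ext (show (f 1).mulVec v.1 = v.1 by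
        rw [map_one, Matrix.one_mulVec])
      mul_smul := fun a b v => Subtype.ext (show (f (a * b)).mulVec v.1 =
          (f a).mulVec ((f b).mulVec v.1) by rw [map_mul, Matrix.mulVec_mulVec]) }
  obtain ⟨v, hv⟩ := exists_ne (0 : Fin n → ZMod p)
  let x : X := ⟨v, hv⟩
  have hcard : Nat.card X = p ^ n - 1 := by
    rw [Nat.card_eq_fintype_card, Fintype.card_subtype_compl, Fintype.card_subtype_eq,
      Fintype.card_fun, ZMod.card, Fintype.card_fin]
  have horb : MulAction.orbit G x = Set.univ := Set.eq_univ_of_forall fun y => by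
    obtain ⟨g, hg⟩ := h.trans x.1 y.1 x.2 y.2
    exact ⟨g, Subtype.ext hg⟩
  rw [← hcard, ← Nat.card_univ (α := X), ← horb,
    Nat.card_congr (MulAction.orbitEquivQuotientStabilizer G x)]
  exact Subgroup.card_quotient_dvd_card _

variable {r : ℕ} [hr : Fact r.Prime]

theorem ne_char (hi : orderOf (p : ZMod r) = n) (hn : 1 ≤ n) : r ≠ p := by
  rintro rfl
  rw [ZMod.natCast_self, orderOf_zero] at hi
  omega

theorem n_dvd (hi : orderOf (p : ZMod r) = n) (hn : 1 ≤ n) : n ∣ r - 1 := by
  rw [← hi]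
  exact orderOf_dvd_of_pow_eq_one (ZMod.pow_card_sub_one_eq_one fun h => by
    rw [h, orderOf_zero] at hi
    omega)

theorem Hyp.singer (h : Hyp p f) (hi : orderOf (p : ZMod r) = n) (hn : 1 ≤ n) {x : G}
    (hx : orderOf x = r) :
    IsCyclic ↥(Subgroup.centralizer ({f.toHomUnits x} : Set (GL (Fin n) (ZMod p)))) ∧
      Nat.card ↥(Subgroup.centralizer ({f.toHomUnits x} : Set (GL (Fin n) (ZMod p)))) =
        p ^ n - 1 := by
  have := H42.centralizer_primitive_order (F := ZMod p) (p := p) hr.out (ne_char hi hn) hn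
    (by rwa [ZMod.card]) (f.toHomUnits x)
    (by rw [orderOf_injective _ (toHomUnits_injective h), hx])
  rwa [ZMod.card] at this

/-- Centralisers of elements of order `r` are commutative. -/
theorem Hyp.comm (h : Hyp p f) (hi : orderOf (p : ZMod r) = n) (hn : 1 ≤ n) (y : G)
    (hy : orderOf y = r) (a b : G) (ha : a * y = y * a) (hb : b * y = y * b) :
    a * b = b * a := by
  obtain ⟨hc, -⟩ := h.singer hi hn hy
  letI := hc.commGroup
  have hm : ∀ c : G, c * y = y * c → f.toHomUnits c ∈
      Subgroup.centralizer ({f.toHomUnits y} : Set (GL (Fin n) (ZMod p))) := fun c hc => by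
    rw [Subgroup.mem_centralizer_singleton_iff, ← map_mul, ← map_mul, hc]
  have := mul_comm (⟨_, hm a ha⟩ :
    ↥(Subgroup.centralizer ({f.toHomUnits y} : Set (GL (Fin n) (ZMod p))))) ⟨_, hm b hb⟩
  refine toHomUnits_injective h ?_
  rw [map_mul, map_mul]
  exact congrArg Subtype.val this

theorem Hyp.orderOf_dvd (h : Hyp p f) (hi : orderOf (p : ZMod r) = n) (hn : 1 ≤ n) {x : G}
    (hx : orderOf x = r) {a : G} (ha : a * x = x * a) : orderOf a ∣ p ^ n - 1 := by
  obtain ⟨-, hc⟩ := h.singer hi hn hx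
  rw [← hc, ← orderOf_injective _ (toHomUnits_injective h) a]
  have hm : f.toHomUnits a ∈
      Subgroup.centralizer ({f.toHomUnits x} : Set (GL (Fin n) (ZMod p))) := by
    rw [Subgroup.mem_centralizer_singleton_iff, ← map_mul, ← map_mul, ha]
  rw [← Subgroup.orderOf_mk _ hm]
  exact orderOf_dvd_natCard _

/-- A normal Sylow `r`-subgroup makes the group solvable. -/
theorem Hyp.solvable_of_normal (h : Hyp p f) (hi : orderOf (p : ZMod r) = n) (hn : 1 ≤ n)
    (hd : r ∣ Nat.card G) (P : Sylow r G) (hP : (P : Subgroup G).Normal) :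
    Group.IsSolvable G := by
  classical
  haveI : Nontrivial (P : Subgroup G) := by
    rw [← Finite.one_lt_card_iff_nontrivial, P.card_eq_multiplicity]
    exact Nat.one_lt_pow (hr.out.factorization_pos_of_dvd Nat.card_pos.ne' hd).ne' hr.out.one_lt
  haveI := P.isPGroup'.center_nontrivial
  obtain ⟨j, hj0, hj⟩ := (P.isPGroup'.to_subgroup (Subgroup.center (P : Subgroup G))).nontrivial_iff_card.1
    inferInstance
  obtain ⟨z, hz⟩ := exists_prime_orderOf_dvd_card' (G := Subgroup.center (P : Subgroup G)) r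
    (hj ▸ dvd_pow_self r hj0.ne')
  set x : G := ((z : (P : Subgroup G)) : G) with hxdef
  have hxP : x ∈ (P : Subgroup G) := (z : (P : Subgroup G)).2
  have hx : orderOf x = r := by rw [hxdef, Subgroup.orderOf_coe, Subgroup.orderOf_coe, hz]
  have hxc : ∀ y ∈ (P : Subgroup G), y * x = x * y := fun y hy =>
    congrArg Subtype.val (Subgroup.mem_center_iff.1 z.2 ⟨y, hy⟩)
  obtain ⟨hc, -⟩ := h.singer hi hn hx
  let emb : (P : Subgroup G) →*
      ↥(Subgroup.centralizer ({f.toHomUnits x} : Set (GL (Fin n) (ZMod p)))) :=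
    (f.toHomUnits.comp (P : Subgroup G).subtype).codRestrict _ (fun y => by
      rw [Subgroup.mem_centralizer_singleton_iff]
      simp only [MonoidHom.comp_apply, Subgroup.coe_subtype, ← map_mul, hxc y y.2])
  haveI : IsCyclic (P : Subgroup G) := isCyclic_of_injective emb (fun a b hab =>
    Subtype.ext (toHomUnits_injective h (congrArg Subtype.val hab)))
  obtain ⟨c, hcg⟩ := IsCyclic.exists_generator (α := (P : Subgroup G))
  have hpow : ∀ y ∈ (P : Subgroup G), ∃ i : ℤ, y = (c : G) ^ i := fun y hy => by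
    obtain ⟨i, hi⟩ := Subgroup.mem_zpowers_iff.1 (hcg ⟨y, hy⟩)
    refine ⟨i, ?_⟩
    have := congrArg Subtype.val hi
    simpa using this.symm
  have hconj : ∀ a : G, ∃ i : ℤ, a * (c : G) * a⁻¹ = (c : G) ^ i := fun a =>
    hpow _ (hP.conj_mem _ c.2 a)
  have hswap : ∀ a b : G, ∀ l : ℤ,
      a * b * ((c : G) ^ l) * (a * b)⁻¹ = b * a * ((c : G) ^ l) * (b * a)⁻¹ := by
    intro a b l
    obtain ⟨i, hi'⟩ := hconj a
    obtain ⟨j, hj'⟩ := hconj b
    have e : ∀ (a : G) (i : ℤ), a * (c : G) * a⁻¹ = (c : G) ^ i → ∀ m : ℤ,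
        a * ((c : G) ^ m) * a⁻¹ = (c : G) ^ (i * m) := fun a i h m => by
      rw [← conj_zpow, h, ← zpow_mul]
    calc a * b * ((c : G) ^ l) * (a * b)⁻¹ = a * (b * (c : G) ^ l * b⁻¹) * a⁻¹ := by group
      _ = (c : G) ^ (i * (j * l)) := by rw [e b j hj', e a i hi']
      _ = (c : G) ^ (j * (i * l)) := by rw [mul_left_comm]
      _ = b * (a * (c : G) ^ l * a⁻¹) * b⁻¹ := by rw [e a i hi', e b j hj']
      _ = _ := by group
  have hcomm : commutator G ≤ Subgroup.centralizer ({x} : Set G) := by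
    rw [commutator_def, Subgroup.commutator_le]
    intro a _ b _
    obtain ⟨l, hl⟩ := hpow _ (hP.conj_mem x hxP (b * a)⁻¹)
    rw [inv_inv] at hl
    have h1 : a * b * ((c : G) ^ l) * (a * b)⁻¹ = x := by
      rw [hswap a b l, ← hl]; group
    rw [Subgroup.mem_centralizer_singleton_iff]
    have h2 : ⁅a, b⁆ * x * ⁅a, b⁆⁻¹ = x := by
      conv_rhs => rw [← h1, ← hl]
      rw [commutatorElement_def]
      group
    exact mul_inv_eq_iff_eq_mul.1 h2
  refine ⟨⟨2, ?_⟩⟩
  rw [derivedSeries_succ, derivedSeries_succ, derivedSeries_zero, ← commutator_def,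
    Subgroup.commutator_eq_bot_iff_le_centralizer]
  intro a ha
  rw [Subgroup.mem_centralizer_iff]
  intro b hb
  exact h.comm hi hn x hx b a (Subgroup.mem_centralizer_singleton_iff.1 (hcomm hb))
    (Subgroup.mem_centralizer_singleton_iff.1 (hcomm ha))

end H13.CT
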