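import Cfsg.Agent.H13.CT.Sylow

/-!
# Eigenspaces of a central element of a coprime linear group

`H13.CT.normal_of_eigen`: if a central element has all eigenspaces of dimension at most `d` and
`2d + 1 < r`, a Sylow `r`-subgroup is normal.  `H13.CT.finrank_le_frob`: eigenspaces of conjugate
eigenvalues of a matrix over the prime field have the same dimension.
-/

set_option autoImplicit false
set_option linter.unusedSectionVars false
set_option linter.style.haveILetI false

open Cfsg Module

namespace H13.CT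

universe u

variable {p : ℕ} [hp : Fact p.Prime] {k : Type} [Field k] [IsAlgClosed k] [CharP k p]

/-- The eigenspace of a matrix. -/
noncomputable abbrev esp {n : ℕ} (A : Matrix (Fin n) (Fin n) k) (μ : k) :
    Submodule k (Fin n → k) :=
  Module.End.eigenspace (Matrix.toLinAlgEquiv' A) μ

theorem mem_esp {n : ℕ} {A : Matrix (Fin n) (Fin n) k} {μ : k} {v : Fin n → k} :
    v ∈ esp A μ ↔ A.mulVec v = μ • v := by
  rw [esp, Module.End.mem_eigenspace_iff, Matrix.toLinAlgEquiv'_apply]

/-- An element of order prime to `p` is diagonalisable. -/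
theorem iSup_esp_eq_top {n : ℕ} (A : Matrix (Fin n) (Fin n) k) {m : ℕ} (hm : ¬ p ∣ m)
    (hA : A ^ m = 1) : ⨆ μ : k, esp A μ = ⊤ := by
  have hmk : (m : k) ≠ 0 := by rwa [Ne, CharP.cast_eq_zero_iff k p]
  have hs : Module.End.IsSemisimple (Matrix.toLinAlgEquiv' A) := by
    refine Module.End.isSemisimple_of_squarefree_aeval_eq_zero
      ((Polynomial.separable_X_pow_sub_C (1 : k) hmk one_ne_zero).squarefree) ?_
    rw [map_sub, map_pow, Polynomial.aeval_X, Polynomial.aeval_C, map_one, ← map_pow, hA, map_one,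
      sub_self]
  rw [← Module.End.iSup_maxGenEigenspace_eq_top (Matrix.toLinAlgEquiv' A)]
  exact iSup_congr fun μ => (hs.isFinitelySemisimple.maxGenEigenspace_eq_eigenspace μ).symm

/-- Eigenvectors for a vanishing determinant. -/
theorem exists_fix_of_esp_ne_bot {n : ℕ} (A : Matrix (Fin n) (Fin n) (ZMod p)) (c : ZMod p)
    (h : esp (A.map (ZMod.castHom dvd_rfl k)) (ZMod.castHom dvd_rfl k c) ≠ ⊥) :
    ∃ v : Fin n → ZMod p, v ≠ 0 ∧ A.mulVec v = c • v := by
  set σ := ZMod.castHom (dvd_refl p) k
  obtain ⟨w, hw, hw0⟩ := Submodule.exists_mem_ne_zero_of_ne_bot h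
  rw [mem_esp] at hw
  have h1 : ((A - c • 1).map σ).det = 0 := by
    refine Matrix.exists_mulVec_eq_zero_iff.1 ⟨w, hw0, ?_⟩
    have h2 : (A - c • 1).map σ = A.map σ - σ c • 1 := by
      ext i j
      by_cases hij : i = j <;> simp [hij]
    rw [h2, Matrix.sub_mulVec, hw, Matrix.smul_mulVec, Matrix.one_mulVec, sub_self]
  rw [← RingHom.mapMatrix_apply, ← RingHom.map_det, map_eq_zero] at h1
  obtain ⟨v, hv0, hv⟩ := Matrix.exists_mulVec_eq_zero_iff.2 h1
  refine ⟨v, hv0, ?_⟩
  rwa [Matrix.sub_mulVec, Matrix.smul_mulVec, Matrix.one_mulVec, sub_eq_zero] at hv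

/-- Conjugate eigenvalues over the prime field: the dimensions increase. -/
theorem finrank_le_frob {n : ℕ} (A : Matrix (Fin n) (Fin n) (ZMod p)) (μ : k) :
    finrank k (esp (A.map (ZMod.castHom dvd_rfl k)) μ) ≤
      finrank k (esp (A.map (ZMod.castHom dvd_rfl k)) (μ ^ p)) := by
  set σ := ZMod.castHom (dvd_refl p) k
  set W := esp (A.map σ) μ
  let φ : k →+* k := frobenius k p
  have hfix : ∀ c : ZMod p, φ (σ c) = σ c := fun c => by
    rw [frobenius_def, ← map_pow, ZMod.pow_card]
  let j : (Fin n → k) →+ (Fin n → k) := AddMonoidHom.compLeft φ.toAddMonoidHom (Fin n)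
  let b := Module.finBasis k W
  have hmem : ∀ i, j (b i : Fin n → k) ∈ esp (A.map σ) (μ ^ p) := by
    intro i
    rw [mem_esp]
    have h := mem_esp.1 (b i).2
    funext a
    have h2 := congrArg φ (congrFun h a)
    rw [RingHom.map_mulVec] at h2
    have h3 : (A.map σ).map φ = A.map σ := by
      ext s t
      simp [hfix]
    rw [h3] at h2
    have h4 : ((j (b i : Fin n → k)) : Fin n → k) = φ ∘ (b i : Fin n → k) := rfl
    rw [h4]
    simpa [φ, frobenius_def, mul_pow] using h2
  have hli : LinearIndependent k fun i => (b i : Fin n → k) :=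
    b.linearIndependent.map' W.subtype (Submodule.ker_subtype W)
  have hφs : Function.Surjective φ := fun x => by
    obtain ⟨y, hy⟩ := IsAlgClosed.exists_pow_nat_eq x hp.out.pos
    exact ⟨y, by rw [frobenius_def]; exact hy⟩
  have hli2 := hli.map_of_surjective_injective φ j hφs
    (fun v hv => funext fun a => φ.injective (by rw [Pi.zero_apply, map_zero]; exact congrFun hv a))
    (fun r v => funext fun a => by simp [j, φ, mul_pow, frobenius_def])
  have hli3 : LinearIndependent k
      fun i => (⟨j (b i : Fin n → k), hmem i⟩ : esp (A.map σ) (μ ^ p)) :=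
    LinearIndependent.of_comp (esp (A.map σ) (μ ^ p)).subtype hli2
  simpa using hli3.fintype_card_le_finrank

theorem two_eigenspaces {n : ℕ} (A : Matrix (Fin n) (Fin n) k) {μ ν : k} (h : μ ≠ ν) :
    finrank k (esp A μ) + finrank k (esp A ν) ≤ n := by
  have hd : esp A μ ⊓ esp A ν = ⊥ :=
    ((Module.End.eigenspaces_iSupIndep _).pairwiseDisjoint h).eq_bot
  have h1 := Submodule.finrank_sup_add_finrank_inf_eq (esp A μ) (esp A ν)
  rw [hd, finrank_bot, add_zero] at h1
  rw [← h1]
  exact (Submodule.finrank_le _).trans (by simp)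

theorem three_eigenspaces {n : ℕ} (A : Matrix (Fin n) (Fin n) k) {μ ν ξ : k} (h1 : μ ≠ ν)
    (h2 : μ ≠ ξ) (h3 : ν ≠ ξ) :
    finrank k (esp A μ) + finrank k (esp A ν) + finrank k (esp A ξ) ≤ n := by
  have hd : esp A ν ⊓ esp A ξ = ⊥ :=
    ((Module.End.eigenspaces_iSupIndep _).pairwiseDisjoint h3).eq_bot
  have hd2 : esp A μ ⊓ (esp A ν ⊔ esp A ξ) = ⊥ := by
    refine ((Module.End.eigenspaces_iSupIndep (Matrix.toLinAlgEquiv' A) μ).mono_right ?_).eq_bot
    exact sup_le (le_iSup₂_of_le ν h1.symm le_rfl) (le_iSup₂_of_le ξ h2.symm le_rfl)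
  have e1 := Submodule.finrank_sup_add_finrank_inf_eq (esp A ν) (esp A ξ)
  rw [hd, finrank_bot, add_zero] at e1
  have e2 := Submodule.finrank_sup_add_finrank_inf_eq (esp A μ) (esp A ν ⊔ esp A ξ)
  rw [hd2, finrank_bot, add_zero] at e2
  rw [add_assoc, ← e1, ← e2]
  exact (Submodule.finrank_le _).trans (by simp)

/-- A central element with small eigenspaces. -/
theorem normal_of_eigen (hL : Lifts.{u} p k) {G : Type u} [Group G] [Finite G]
    (hA : ¬ p ∣ Nat.card G) {n d : ℕ} (f : G →* Matrix (Fin n) (Fin n) k)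
    (hf : Function.Injective f) (z : G) (hz : ∀ g : G, g * z = z * g)
    (hd : ∀ μ : k, finrank k (esp (f z) μ) ≤ d) {r : ℕ} [hr : Fact r.Prime]
    (hrd : 2 * d + 1 < r) (P : Sylow r G) : (P : Subgroup G).Normal := by
  classical
  have hspan : ⨆ μ : k, esp (f z) μ = ⊤ :=
    iSup_esp_eq_top (f z) (fun h => hA (h.trans (orderOf_dvd_natCard z)))
      (by rw [← map_pow, pow_orderOf_eq_one, map_one])
  set R := Subgroup.normalClosure ((P : Subgroup G) : Set G) with hR
  obtain ⟨e, he⟩ := P.isPGroup'.exists_card_eq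
  have hkill : ∀ μ : k, ∀ y ∈ R, ∀ v ∈ esp (f z) μ, (f (y ^ r ^ e)).mulVec v = v := by
    intro μ
    set W := esp (f z) μ
    have hinv : ∀ g : G, ∀ v ∈ W, Matrix.toLinAlgEquiv' (f g) v ∈ W := by
      intro g v hv
      rw [Matrix.toLinAlgEquiv'_apply, mem_esp] at *
      rw [Matrix.mulVec_mulVec, ← map_mul, ← hz g, map_mul, ← Matrix.mulVec_mulVec, hv,
        Matrix.mulVec_smul]
    let ρ : G →* Module.End k W :=
      { toFun := fun g => (Matrix.toLinAlgEquiv' (f g)).restrict (hinv g)
        map_one' := by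
          apply LinearMap.ext
          intro v
          apply Subtype.ext
          simp
        map_mul' := fun a b => by
          apply LinearMap.ext
          intro v
          apply Subtype.ext
          simp [Matrix.mulVec_mulVec] }
    let b := Module.finBasis k W
    let F : G →* Matrix (Fin (finrank k W)) (Fin (finrank k W)) k :=
      (LinearMap.toMatrixAlgEquiv b).toRingEquiv.toMonoidHom.comp ρ
    set K := F.toHomUnits.ker with hK
    let q : G ⧸ K →* Matrix (Fin (finrank k W)) (Fin (finrank k W)) k :=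
      (Units.coeHom _).comp (QuotientGroup.kerLift F.toHomUnits)
    have hq : Function.Injective q :=
      Units.val_injective.comp (QuotientGroup.kerLift_injective _)
    haveI hQn := normal_of_gt hL (fun h => hA (h.trans K.card_quotient_dvd_card)) q hq
      (r := r) (by have h : finrank k W ≤ d := hd μ; omega)
      (P.mapSurjective (QuotientGroup.mk'_surjective K))
    intro y hy v hv
    have hle : R ≤ (((P.mapSurjective (QuotientGroup.mk'_surjective K)) : Sylow r (G ⧸ K)) :
        Subgroup (G ⧸ K)).comap (QuotientGroup.mk' K) := by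
      haveI := hQn.comap (QuotientGroup.mk' K)
      refine Subgroup.normalClosure_le_normal fun a ha => ?_
      rw [SetLike.mem_coe, Subgroup.mem_comap, Sylow.coe_mapSurjective]
      exact Subgroup.mem_map_of_mem _ ha
    have h1 := hle hy
    rw [Subgroup.mem_comap, Sylow.coe_mapSurjective] at h1
    obtain ⟨a, ha, hay⟩ := h1
    have h2 : (QuotientGroup.mk' K) (y ^ r ^ e) = 1 := by
      rw [map_pow, ← hay, ← map_pow]
      have h3 : a ^ r ^ e = 1 := by
        have := pow_card_eq_one' (G := (P : Subgroup G)) (x := ⟨a, ha⟩)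
        rw [he] at this
        exact congrArg Subtype.val this
      rw [h3, map_one]
    have h4 : y ^ r ^ e ∈ K := (QuotientGroup.eq_one_iff _).1 h2
    have h5 : F (y ^ r ^ e) = 1 := congrArg Units.val (MonoidHom.mem_ker.1 h4)
    have h6 : ρ (y ^ r ^ e) = 1 := by
      apply (LinearMap.toMatrixAlgEquiv b).injective
      rw [map_one]
      exact h5
    have h7 := congrArg Subtype.val (LinearMap.congr_fun h6 ⟨v, hv⟩)
    simpa [ρ, -map_pow] using h7
  have hRp : IsPGroup r R := fun y => ⟨e, Subtype.ext (hf ?_)⟩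
  · have hle : (P : Subgroup G) ≤ R := Subgroup.le_normalClosure
    have heq := P.is_maximal' hRp hle
    rw [← heq, hR]
    exact Subgroup.normalClosure_normal
  · rw [Subgroup.coe_pow, Subgroup.coe_one, map_one]
    apply (Matrix.toLinAlgEquiv' (R := k)).injective
    rw [map_one]
    refine LinearMap.ext fun v => ?_
    have hv : v ∈ ⨆ μ : k, esp (f z) μ := hspan ▸ Submodule.mem_top
    induction hv using Submodule.iSup_induction' with
    | mem μ w hw =>
      rw [Matrix.toLinAlgEquiv'_apply, hkill μ _ y.2 w hw]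
      rfl
    | zero => simp
    | add a b _ _ ha hb => rw [map_add, ha, hb]; rfl

end H13.CT
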