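import Cfsg.Agent.H20.CoprimeUnits
import Cfsg.Agent.H12.Integral
import Cfsg.Agent.H22.ValueMod

/-!
# A faithful character of a coprime linear group

`H13.CT.exists_lifts`: there is an algebraically closed field `k` of characteristic `p` such that
every group of order prime to `p` with a faithful representation of degree `n` over `k` has a
faithful complex character of degree at most `n`.  The construction follows `H66.OddLift`: the
idempotents of the irreducible characters reduce to orthogonal idempotents with matrix units of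
the full degree.
-/

set_option autoImplicit false
set_option linter.unusedSectionVars false
set_option linter.style.haveILetI false

open Cfsg
open scoped ComplexConjugate Matrix

namespace H13.CT

universe u

/-- Faithful representations over `k` of groups of order prime to `p` lift to characters. -/
def Lifts (p : ℕ) (k : Type) [Field k] : Prop :=
  ∀ (G : Type u) [Group G] [Finite G], ¬ p ∣ Nat.card G → ∀ (n : ℕ)
    (f : G →* Matrix (Fin n) (Fin n) k), Function.Injective f →
      ∃ φ : G → ℂ, IsCharacter G φ ∧ (∀ g, φ g = φ 1 → g = 1) ∧ ∃ m : ℕ, m ≤ n ∧ φ 1 = (m : ℂ)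

section

variable {p : ℕ} [hp : Fact p.Prime] {M : Ideal AlgInt} [hMp : M.IsPrime]
  {k : Type} [Field k] [IsAlgClosed k] {π : H20.Ou M p →+* k}

variable {G : Type u} [Group G] [Fintype G]

theorem rt_mem {z : ℂ} {m : ℕ} (hm : ¬ p ∣ m) (hz : z ^ m = 1) : z ∈ H20.Ou M p :=
  H20.Rr_le_Ou (H20.mem_Rr_of_pow_eq_one hm hz)

theorem card_inv_mem (hM : IsPModular p M) (hA : ¬ p ∣ Nat.card G) :
    ((Nat.card G : ℂ))⁻¹ ∈ H20.Ou M p := by
  refine H20.inv_mem_Ou (natCast_mem _ _) fun h => ?_
  have h2 := (H20.p_dvd_iff hM (Nat.card G : H20.Ou M p)).2 (by simpa using h)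
  have hc : IsCoprime (p : ℤ) (Nat.card G : ℤ) :=
    (hp.out.coprime_iff_not_dvd.2 hA).isCoprime
  obtain ⟨a, b, hab⟩ := hc
  have h3 := congrArg (fun z : ℤ => (z : H20.Ou M p)) hab
  push_cast at h3
  refine H20.ou_p_not_isUnit hM (isUnit_of_dvd_one ?_)
  rw [← h3]
  exact dvd_add (dvd_mul_left _ _) (dvd_mul_of_dvd_right h2 _)

theorem val_mem (hA : ¬ p ∣ Nat.card G) (χ : IrrCharacter G) (g : G) :
    (χ : G → ℂ) g ∈ H20.Ou M p := by
  obtain ⟨m, ρ, -, hρ⟩ := χ.2
  obtain ⟨μ, h1, h2, -⟩ := H12.exists_char_eigenvalues ρ g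
  have hg : (χ : G → ℂ) g = ∑ i, μ i := by rw [← hρ]; simpa using h2 1
  rw [hg]
  exact Subring.sum_mem _ fun i _ =>
    rt_mem (fun h => hA (h.trans (orderOf_dvd_natCard g))) (h1 i)

variable (hM : IsPModular p M) (hA : ¬ p ∣ Nat.card G)

/-- The coefficient of the idempotent of `χ`. -/
noncomputable def coef (χ : IrrCharacter G) (g : G) : H20.Ou M p :=
  ⟨(Nat.card G : ℂ)⁻¹ * ((χ : G → ℂ) 1 * (χ : G → ℂ) g⁻¹),
    mul_mem (card_inv_mem hM hA) (mul_mem (val_mem hA χ 1) (val_mem hA χ g⁻¹))⟩

/-- The idempotent of `χ` over the local ring. -/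
noncomputable def idem (χ : IrrCharacter G) : MonoidAlgebra (H20.Ou M p) G :=
  H20.ofFun (coef hM hA χ)

theorem map_idem (χ : IrrCharacter G) :
    MonoidAlgebra.mapRingHom G (H20.Ou M p).subtype (idem hM hA χ) =
      H20.eIdem ({χ} : Set (IrrCharacter G)) := by
  classical
  ext g
  rw [H20.coeff_mapRingHom, idem, H20.coeff_ofFun, H20.eIdem, H20.coeff_ofFun,
    H20.blockCoeff_eq_sum]
  simp [coef, H12.irr_inv]

/-- The idempotent of `χ` over the residue field. -/
noncomputable def ebar (π : H20.Ou M p →+* k) (χ : IrrCharacter G) : MonoidAlgebra k G :=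
  MonoidAlgebra.mapRingHom G π (idem hM hA χ)

theorem coeff_ebar (χ : IrrCharacter G) (g : G) :
    (ebar hM hA π χ).coeff g = π (coef hM hA χ g) := by
  rw [ebar, H20.coeff_mapRingHom, idem, H20.coeff_ofFun]

theorem mapC_injective :
    Function.Injective (MonoidAlgebra.mapRingHom G (H20.Ou M p).subtype) := fun a b h => by
  ext g
  have := congrArg (fun z => z.coeff g) h
  simpa using this

theorem ebar_mul_ne {χ χ' : IrrCharacter G} (h : χ ≠ χ') :
    ebar hM hA π χ * ebar hM hA π χ' = 0 := by
  classical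
  have h0 : idem hM hA χ * idem hM hA χ' = 0 := by
    refine mapC_injective ?_
    rw [map_mul, map_idem, map_idem, map_zero]
    refine H20.ext_omega ((H20.isCl_eIdem _).mul (H20.isCl_eIdem _))
      (fun g h => by simp) fun θ => ?_
    rw [H20.omega_mul θ (H20.isCl_eIdem _), H20.omega_eIdem, H20.omega_eIdem, H20.omega_zero]
    simp only [Set.mem_singleton_iff]
    split_ifs with h1 h2
    · exact absurd (h1.symm.trans h2) h
    all_goals simp
  rw [ebar, ebar, ← map_mul, h0, map_zero]

theorem sum_ebar : ∑ χ : IrrCharacter G, ebar hM hA π χ = 1 := by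
  classical
  have h0 : ∑ χ : IrrCharacter G, idem hM hA χ = 1 := by
    ext g
    rw [MonoidAlgebra.coeff_sum, Finsupp.finsetSum_apply]
    push_cast
    simp only [idem, H20.coeff_ofFun, coef, ← Finset.mul_sum]
    rw [H12.regular_eq_sum]
    by_cases hg : g = 1
    · subst hg
      simp [MonoidAlgebra.one_def]
    · rw [if_neg (fun h => hg (inv_eq_one.1 h))]
      simp [MonoidAlgebra.one_def, Ne.symm hg]
  simp only [ebar, ← map_sum, h0, map_one]

/-- Matrix units of the full degree under the reduced idempotents. -/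
theorem exists_units (hr : H20.Stable.IsRed π p) (χ : IrrCharacter G) :
    ∃ (s : Matrix (Fin (H12.degree (χ : G → ℂ))) (Fin (H12.degree (χ : G → ℂ))) k →ₗ[k]
        MonoidAlgebra k G),
      (∀ X Y, s (X * Y) = s X * s Y) ∧ s 1 = ebar hM hA π χ := by
  classical
  haveI := H20.ou_isDVR hM
  have h := fun θ : IrrCharacter G => H20.exists_matrixUnits hr (H20.Ou M p).subtype
    Subtype.val_injective hA θ (idem hM hA θ) (map_idem hM hA θ)
    (fun h => hA (h.trans (H12.irr_degree_dvd_card θ)))
  choose m s ψ hpos hle hmul hone hψs hker using h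
  have hsum : Nat.card G ≤ ∑ θ, m θ * m θ := by
    let F : MonoidAlgebra k G →ₗ[k] ((θ : IrrCharacter G) → Matrix (Fin (m θ)) (Fin (m θ)) k) :=
      LinearMap.pi fun θ => (ψ θ).toLinearMap
    have hF : Function.Injective F := by
      intro a b hab
      have e : ∀ z : MonoidAlgebra k G, z = ∑ θ, s θ (ψ θ z) := by
        intro z
        conv_lhs => rw [← mul_one z, ← sum_ebar hM hA (π := π), Finset.mul_sum]
        exact Finset.sum_congr rfl fun θ _ => hker θ z
      rw [e a, e b]
      exact Finset.sum_congr rfl fun θ _ => congrArg (s θ) (congrFun hab θ)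
    have h1 := LinearMap.finrank_le_finrank_of_injective hF
    rw [Module.finrank_pi_fintype] at h1
    simp only [Module.finrank_matrix, Fintype.card_fin, Module.finrank_self, mul_one] at h1
    let E : (G → k) →ₗ[k] MonoidAlgebra k G :=
      { toFun := fun f => H20.ofFun f
        map_add' := fun f g => by ext a; simp
        map_smul' := fun c f => by ext a; simp }
    have hE : Function.Injective E := fun f g h => by
      funext a
      simpa [E] using congrArg (fun z => z.coeff a) h
    haveI : Module.Finite k (MonoidAlgebra k G) := Module.Finite.of_surjective E (fun z =>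
      ⟨fun a => z.coeff a, by ext a; simp [E]⟩)
    have h2 := LinearMap.finrank_le_finrank_of_injective hE
    rw [Module.finrank_fintype_fun_eq_card, ← Nat.card_eq_fintype_card] at h2
    omega
  have heq : m χ = H12.degree (χ : G → ℂ) := by
    by_contra hne
    have h1 : ∑ θ, m θ * m θ < ∑ θ : IrrCharacter G, H12.degree (θ : G → ℂ) ^ 2 := by
      refine Finset.sum_lt_sum (fun θ _ => by rw [pow_two]; exact Nat.mul_le_mul (hle θ) (hle θ))
        ⟨χ, Finset.mem_univ χ, ?_⟩
      rw [pow_two]
      have := lt_of_le_of_ne (hle χ) hne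
      exact Nat.mul_lt_mul_of_lt_of_lt this this
    rw [H12.sum_degree_sq_nat] at h1
    omega
  have aux : ∀ d, d = m χ → ∃ (s : Matrix (Fin d) (Fin d) k →ₗ[k] MonoidAlgebra k G),
      (∀ X Y, s (X * Y) = s X * s Y) ∧ s 1 = ebar hM hA π χ := by
    rintro d rfl
    exact ⟨s χ, hmul χ, hone χ⟩
  exact aux _ heq.symm

/-- A character of degree at most `n` with trivial kernel. -/
theorem exists_char (hr : H20.Stable.IsRed π p) (n : ℕ) (f : G →* Matrix (Fin n) (Fin n) k)
    (hf : Function.Injective f) (hM : IsPModular p M) (hA : ¬ p ∣ Nat.card G) :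
    ∃ φ : G → ℂ, IsCharacter G φ ∧ (∀ g, φ g = φ 1 → g = 1) ∧
      ∃ m : ℕ, m ≤ n ∧ φ 1 = (m : ℂ) := by
  classical
  let F : MonoidAlgebra k G →ₐ[k] Matrix (Fin n) (Fin n) k :=
    MonoidAlgebra.lift k (Matrix (Fin n) (Fin n) k) G f
  set S : Finset (IrrCharacter G) := Finset.univ.filter fun χ => F (ebar hM hA π χ) ≠ 0 with hS
  choose s hmul hone using fun χ => exists_units hM hA hr χ
  -- vectors
  have hdeg : ∀ χ : IrrCharacter G, 0 < H12.degree (χ : G → ℂ) := fun χ =>
    Nat.pos_of_ne_zero fun h => H12.irr_apply_one_ne_zero χ (by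
      rw [H12.irr_apply_one, h, Nat.cast_zero])
  have hv : ∀ χ : S, ∃ v : Fin n → k,
      (F (s χ.1 (Matrix.single (⟨0, hdeg _⟩ : Fin _) ⟨0, hdeg _⟩ 1))).mulVec v ≠ 0 := by
    rintro ⟨χ, hχ⟩
    set o : Fin (H12.degree (χ : G → ℂ)) := ⟨0, hdeg χ⟩
    have hne : F (s χ (Matrix.single o o 1)) ≠ 0 := by
      intro h0
      apply (Finset.mem_filter.1 hχ).2
      rw [← hone χ]
      have h1 : (1 : Matrix (Fin (H12.degree (χ : G → ℂ))) _ k) = ∑ i, Matrix.single i i 1 := by
        rw [Matrix.sum_single_one]
      rw [h1, map_sum, map_sum]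
      refine Finset.sum_eq_zero fun i _ => ?_
      have h2 : (Matrix.single i i (1 : k)) =
          Matrix.single i o 1 * Matrix.single o o 1 * Matrix.single o i 1 := by simp
      rw [h2, hmul, hmul, map_mul, map_mul, h0, mul_zero, zero_mul]
    by_contra hall
    push Not at hall
    apply hne
    ext i j
    have := congrFun (hall (Pi.single j 1)) i
    simpa [o] using this
  choose v hv using hv
  let w : (Σ χ : S, Fin (H12.degree (χ.1 : G → ℂ))) → (Fin n → k) := fun a =>
    (F (s a.1.1 (Matrix.single a.2 (⟨0, hdeg _⟩ : Fin _) 1))).mulVec (v a.1)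
  have hw : LinearIndependent k w := by
    rw [Fintype.linearIndependent_iff]
    rintro c hc ⟨χ, i⟩
    set o : Fin (H12.degree (χ.1 : G → ℂ)) := ⟨0, hdeg _⟩
    set T := F (s χ.1 (Matrix.single o i 1)) with hT
    have h1 : ∀ b, T.mulVec (w b) = if b = ⟨χ, i⟩ then
        (F (s χ.1 (Matrix.single o o 1))).mulVec (v χ) else 0 := by
      rintro ⟨ψ, j⟩
      simp only [w, hT, Matrix.mulVec_mulVec, ← map_mul]
      by_cases hψ : ψ = χ
      · subst hψ
        rw [← hmul]
        by_cases hj : j = i
        · subst hj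
          rw [if_pos rfl, Matrix.single_mul_single_same, one_mul]
        · rw [if_neg (fun h => hj (by simpa using h)),
            Matrix.single_mul_single_of_ne _ _ _ _ (Ne.symm hj), map_zero, map_zero,
            Matrix.zero_mulVec]
      · rw [if_neg (fun h => hψ (congrArg Sigma.fst h))]
        have h2 : s χ.1 (Matrix.single o i 1) * s ψ.1 (Matrix.single j ⟨0, hdeg _⟩ 1) = 0 := by
          conv_lhs => rw [← mul_one (Matrix.single o i (1 : k)),
            ← one_mul (Matrix.single j (⟨0, hdeg ψ.1⟩ : Fin _) (1 : k)), hmul, hmul, hone, hone,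
            mul_assoc, ← mul_assoc (ebar hM hA π χ.1),
            ebar_mul_ne hM hA (fun h => hψ (Subtype.ext h.symm)), zero_mul, mul_zero]
        rw [h2, map_zero, Matrix.zero_mulVec]
    have h3 := congrArg T.mulVec hc
    rw [Matrix.mulVec_zero, Matrix.mulVec_sum, Finset.sum_eq_single ⟨χ, i⟩] at h3
    · rw [Matrix.mulVec_smul, h1, if_pos rfl] at h3
      exact (smul_eq_zero.1 h3).resolve_right (hv χ)
    · intro b _ hb
      rw [Matrix.mulVec_smul, h1, if_neg hb, smul_zero]
    · intro h; exact absurd (Finset.mem_univ _) h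
  have hcard := hw.fintype_card_le_finrank
  rw [Module.finrank_fin_fun, Fintype.card_sigma] at hcard
  simp only [Fintype.card_fin] at hcard
  set φ : G → ℂ := ∑ χ : IrrCharacter G, ((if χ ∈ S then 1 else 0 : ℕ) : ℂ) • (χ : G → ℂ) with hφdef
  have hφ : IsCharacter G φ := H12.isCharacter_sum_natCast_smul _
  have hφv : ∀ g, φ g = ∑ χ ∈ S, (χ : G → ℂ) g := by
    intro g
    simp [hφdef, Finset.sum_apply]
  refine ⟨φ, hφ, fun g hg => hf ?_, ∑ χ ∈ S, H12.degree (χ : G → ℂ), ?_, ?_⟩
  · -- kernel
    have hle : ∀ χ : IrrCharacter G, ((χ : G → ℂ) g).re ≤ H12.degree (χ : G → ℂ) ∧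
        (((χ : G → ℂ) g).re = H12.degree (χ : G → ℂ) → (χ : G → ℂ) g = (χ : G → ℂ) 1) := by
      intro χ
      obtain ⟨m, ρ, -, hρ⟩ := χ.2
      have hm : (m : ℂ) = H12.degree (χ : G → ℂ) := by
        rw [← H12.irr_apply_one, ← hρ, Representation.char_one, Module.finrank_fin_fun]
      have hm' : (m : ℝ) = H12.degree (χ : G → ℂ) := by exact_mod_cast hm
      have hn := H12.norm_character_le ρ g
      rw [Module.finrank_fin_fun, hm', hρ] at hn
      refine ⟨(Complex.re_le_norm _).trans hn, fun h => ?_⟩
      have h2 : ((χ : G → ℂ) g).im = 0 := by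
        have h3 := Complex.sq_norm ((χ : G → ℂ) g)
        rw [Complex.normSq_apply, h] at h3
        have h4 := pow_le_pow_left₀ (norm_nonneg _) hn 2
        nlinarith [mul_self_nonneg ((χ : G → ℂ) g).im]
      rw [H12.irr_apply_one]
      apply Complex.ext <;> simp [h, h2]
    have heq : ∀ χ ∈ S, ((χ : G → ℂ) g).re = H12.degree (χ : G → ℂ) := by
      refine (Finset.sum_eq_sum_iff_of_le fun χ _ => (hle χ).1).1 ?_
      have h1 := congrArg Complex.re hg
      rw [hφv, hφv, Complex.re_sum, Complex.re_sum] at h1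
      rw [h1]
      exact Finset.sum_congr rfl fun χ _ => by rw [H12.irr_apply_one]; simp
    have hE : ∀ χ, F (ebar hM hA π χ) * f g = F (ebar hM hA π χ) := by
      intro χ
      by_cases hχ : χ ∈ S
      · have hk : (χ : G → ℂ) g = (χ : G → ℂ) 1 := (hle χ).2 (heq χ hχ)
        obtain ⟨m, ρ, -, hρ⟩ := χ.2
        have hρg : ρ g = 1 := by
          rw [← hρ, Representation.char_one] at hk
          exact (H12.character_eq_finrank_iff ρ g).1 hk
        have h1 : ebar hM hA π χ * MonoidAlgebra.of k G g = ebar hM hA π χ := by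
          ext a
          rw [MonoidAlgebra.of_apply, MonoidAlgebra.coeff_mul_single_apply, mul_one, coeff_ebar,
            coeff_ebar]
          congr 1
          apply Subtype.ext
          simp only [coef]
          congr 2
          rw [← hρ]
          simp only [mul_inv_rev, inv_inv, Representation.character, map_mul, hρg, one_mul]
        have h2 := congrArg F h1
        rw [map_mul] at h2
        simpa [F] using h2
      · have h0 : F (ebar hM hA π χ) = 0 := by
          by_contra h
          exact hχ (Finset.mem_filter.2 ⟨Finset.mem_univ _, h⟩)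
        rw [h0, zero_mul]
    rw [map_one, ← one_mul (f g), ← map_one F, ← sum_ebar hM hA (π := π), map_sum,
      Finset.sum_mul]
    exact Finset.sum_congr rfl fun χ _ => hE χ
  · calc ∑ χ ∈ S, H12.degree (χ : G → ℂ)
        = ∑ χ : S, H12.degree (χ.1 : G → ℂ) := (Finset.sum_coe_sort S _).symm
      _ ≤ n := hcard
  · rw [hφv, Nat.cast_sum]
    exact Finset.sum_congr rfl fun χ _ => H12.irr_apply_one χ

end

/-- An algebraically closed field of characteristic `p` over which coprime representations lift. -/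
theorem exists_lifts (p : ℕ) [hp : Fact p.Prime] :
    ∃ (k : Type) (_ : Field k) (_ : IsAlgClosed k) (_ : CharP k p), Lifts.{u} p k := by
  obtain ⟨M, hM⟩ := H22.exists_isPModular p hp.out
  haveI := hM.2.1.isPrime
  haveI := H20.ou_isDVR hM
  haveI := H20.kU_isMaximal (M := M) (p := p) hM
  letI : Field (H20.kU M p) := Ideal.Quotient.field _
  haveI := H20.kU_isAlgClosed hM
  let π : H20.Ou M p →+* H20.kU M p := Ideal.Quotient.mk _
  have hr : H20.Stable.IsRed π p :=
    ⟨hp.out, Ideal.Quotient.mk_surjective,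
      fun x => Ideal.Quotient.eq_zero_iff_mem.trans Ideal.mem_span_singleton,
      fun x hx => H20.ou_isUnit hM fun hd' =>
        hx (Ideal.Quotient.eq_zero_iff_mem.2 (Ideal.mem_span_singleton.2 hd'))⟩
  haveI := hr.charP
  refine ⟨H20.kU M p, inferInstance, inferInstance, inferInstance, ?_⟩
  intro G _ _ hA n f hf
  letI : Fintype G := Fintype.ofFinite G
  exact exists_char hr n f hf hM hA

end H13.CT
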