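import Cfsg.Agent.H13.CT.Steps
import Cfsg.Agent.H60.LargePPD
import Cfsg.Agent.H33.TwoPrime
import Cfsg.Agent.H16.OddOrder
import Cfsg.Agent.S3360

/-!
# Coprime transitive linear groups of dimension at least three

`H13.CT.isSolvable`: a group of order prime to `p` acting faithfully, linearly and transitively on
the non-zero vectors of a space of dimension at least 3 over `ZMod p` is solvable, hence (S3360)
semilinear unless the space has 81 elements.  No classification is used: a large primitive prime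
divisor (Feit), the Feit–Thompson degree bounds and Brauer's `p = 2n + 1` theorem.
-/

set_option autoImplicit false
set_option linter.unusedSectionVars false
set_option linter.unusedVariables false
set_option linter.style.haveILetI false

open Cfsg Module

namespace H13.CT

universe u

variable {p : ℕ} [hp : Fact p.Prime] {G : Type u} [Group G] [Finite G] {n : ℕ}
  {f : G →* Matrix (Fin n) (Fin n) (ZMod p)}

theorem card_pos_sylow {r : ℕ} [Fact r.Prime] {x : G} (hx : orderOf x = r) : r ∣ Nat.card G :=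
  hx ▸ orderOf_dvd_natCard x

/-- The primes of the linear groups in small dimension. -/
theorem Hyp.card_dvd_gl (h : Hyp p f) :
    Nat.card G ∣ ∏ i : Fin n, (p ^ n - p ^ (i : ℕ)) := by
  have := Subgroup.card_dvd_of_injective f.toHomUnits (toHomUnits_injective h)
  rwa [Matrix.card_GL_field, ZMod.card] at this

/-- The arithmetic of the case `r = 2n + 1`. -/
theorem half_arith {p n g z : ℕ} (hp : p.Prime) (hn : 3 ≤ n) (hr : (2 * n + 1).Prime)
    (hcop : ¬ p ∣ g) (hdvd : p ^ n - 1 ∣ g) (hz : z ∣ p - 1)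
    (he : 2 * g = z * ((2 * n + 1) * ((2 * n + 1) ^ 2 - 1))) (hp2 : p ≠ 2) : False := by
  set r := 2 * n + 1 with hrdef
  have hp3 : p ≠ 3 := by
    rintro rfl
    apply hcop
    have h6 : 3 ∣ r * (r ^ 2 - 1) := by
      rcases (by omega : r % 3 = 0 ∨ r % 3 = 1 ∨ r % 3 = 2) with h | h | h
      · exact dvd_mul_of_dvd_left (Nat.dvd_of_mod_eq_zero h) _
      · refine dvd_mul_of_dvd_right ((Nat.modEq_iff_dvd' (Nat.one_le_pow _ _ (by omega))).1 ?_) _
        show 1 % 3 = r ^ 2 % 3
        rw [Nat.pow_mod, h]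
      · refine dvd_mul_of_dvd_right ((Nat.modEq_iff_dvd' (Nat.one_le_pow _ _ (by omega))).1 ?_) _
        show 1 % 3 = r ^ 2 % 3
        rw [Nat.pow_mod, h]
    have h1 : 3 ∣ 2 * g := he ▸ dvd_mul_of_dvd_right h6 z
    exact ((Nat.Coprime.dvd_mul_left (by decide)).1 h1)
  have hp5 : 5 ≤ p := by
    have := hp.two_le
    rcases (by omega : p = 4 ∨ 5 ≤ p) with h4 | h4
    · exact absurd (h4 ▸ hp) (by decide)
    · exact h4
  have hg0 : 0 < g := Nat.pos_of_ne_zero fun h => hcop (h ▸ dvd_zero p)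
  have hle1 : 2 * (p ^ n - 1) ≤ (p - 1) * (r * (r ^ 2 - 1)) := by
    refine le_trans (Nat.mul_le_mul_left 2 (Nat.le_of_dvd hg0 hdvd)) (he ▸ ?_)
    exact Nat.mul_le_mul_right _ (Nat.le_of_dvd (by omega) hz)
  obtain ⟨m, rfl⟩ : ∃ m, n = m + 3 := ⟨n - 3, by omega⟩
  obtain ⟨a, rfl⟩ : ∃ a, p = a + 1 := ⟨p - 1, by omega⟩
  rw [Nat.add_sub_cancel] at hle1 hz
  -- `(p - 1)(p ^ (n - 1) + p ^ (n - 2)) ≤ p ^ n - 1`
  have hgeo : a * ((a + 1) ^ (m + 2) + (a + 1) ^ (m + 1)) ≤ (a + 1) ^ (m + 3) - 1 := by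
    have e1 : (a + 1) ^ (m + 3) = (a + 1) ^ (m + 1) * ((a + 1) * (a + 1)) := by ring
    have e2 : a * ((a + 1) ^ (m + 2) + (a + 1) ^ (m + 1)) + (a + 1) ^ (m + 1) =
        (a + 1) ^ (m + 3) := by ring
    have := Nat.one_le_pow (m + 1) (a + 1) (by omega)
    omega
  have hle2 : 2 * ((a + 1) ^ (m + 2) + (a + 1) ^ (m + 1)) ≤ r * (r ^ 2 - 1) := by
    refine Nat.le_of_mul_le_mul_left ?_ (show 0 < a by omega)
    calc a * (2 * ((a + 1) ^ (m + 2) + (a + 1) ^ (m + 1)))
        = 2 * (a * ((a + 1) ^ (m + 2) + (a + 1) ^ (m + 1))) := by ring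
      _ ≤ 2 * ((a + 1) ^ (m + 3) - 1) := Nat.mul_le_mul_left 2 hgeo
      _ ≤ _ := hle1
  rcases (by omega : m = 0 ∨ m = 1 ∨ 2 ≤ m) with rfl | rfl | hm
  · -- dimension 3
    norm_num [hrdef] at hle2 he hdvd hr
    have ha : a + 1 < 14 := by nlinarith
    obtain ⟨ha4, ha14⟩ : 4 ≤ a ∧ a < 13 := ⟨by omega, by omega⟩
    have hzd : 2 * ((a + 1) ^ 3 - 1) ∣ a * 336 := by
      have h2 : 2 * g = z * 336 := by omega
      refine dvd_trans (Nat.mul_dvd_mul_left 2 hdvd) ?_
      rw [h2]
      exact Nat.mul_dvd_mul_right hz 336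
    have h7 : a + 1 ≠ 7 := by
      intro h7
      apply hcop
      have h1 : 7 ∣ 2 * g := he ▸ dvd_mul_of_dvd_right (by norm_num) z
      rw [h7]
      exact ((Nat.Coprime.dvd_mul_left (by decide)).1 h1)
    interval_cases a <;> omega
  · norm_num [hrdef] at hr
  · -- dimension at least 5
    have key : ∀ j : ℕ, (2 * (j + 5) + 1) * (2 * (j + 5)) * (2 * (j + 5) + 2) <
        2 * (5 ^ (j + 4) + 5 ^ (j + 3)) := by
      intro j
      induction j with
      | zero => norm_num
      | succ j ih =>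
        have e : 2 * (5 ^ (j + 1 + 4) + 5 ^ (j + 1 + 3)) = 5 * (2 * (5 ^ (j + 4) + 5 ^ (j + 3))) := by
          ring
        rw [e]
        calc (2 * (j + 1 + 5) + 1) * (2 * (j + 1 + 5)) * (2 * (j + 1 + 5) + 2)
            ≤ 5 * ((2 * (j + 5) + 1) * (2 * (j + 5)) * (2 * (j + 5) + 2)) := by
              have h0 : (2 * j + 13) * (2 * j + 14) ≤ 5 * ((2 * j + 11) * (2 * j + 10)) := by
                nlinarith
              have h1 := Nat.mul_le_mul_right (2 * j + 12) h0
              ring_nf at h1 ⊢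
              omega
          _ < _ := Nat.mul_lt_mul_of_pos_left ih (by norm_num)
    obtain ⟨j, rfl⟩ : ∃ j, m = j + 2 := ⟨m - 2, by omega⟩
    have h1 := key j
    have h2 : r * (r ^ 2 - 1) = (2 * (j + 5) + 1) * (2 * (j + 5)) * (2 * (j + 5) + 2) := by
      have h3 : r ^ 2 - 1 = (2 * (j + 5)) * (2 * (j + 5) + 2) := by
        have : r ^ 2 = (2 * (j + 5)) * (2 * (j + 5) + 2) + 1 := by
          rw [hrdef]; ring
        omega
      rw [h3, hrdef]
      ring
    have h4 := Nat.pow_le_pow_left hp5 (j + 4)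
    have h5 := Nat.pow_le_pow_left hp5 (j + 3)
    rw [show j + 2 + 2 = j + 4 from rfl, show j + 2 + 1 = j + 3 from rfl, h2] at hle2
    omega

theorem ord_three_five : orderOf ((3 : ℕ) : ZMod 5) = 4 := by
  rw [orderOf_eq_iff (by norm_num)]
  exact ⟨by decide, fun m hm hm0 => by interval_cases m <;> decide⟩

theorem ord_three_seven : orderOf ((3 : ℕ) : ZMod 7) = 6 := by
  rw [orderOf_eq_iff (by norm_num)]
  exact ⟨by decide, fun m hm hm0 => by interval_cases m <;> decide⟩

theorem ord_five_seven : orderOf ((5 : ℕ) : ZMod 7) = 6 := by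
  rw [orderOf_eq_iff (by norm_num)]
  exact ⟨by decide, fun m hm hm0 => by interval_cases m <;> decide⟩

theorem ord_three_thirteen : orderOf ((3 : ℕ) : ZMod 13) = 3 := by
  rw [orderOf_eq_iff (by norm_num)]
  exact ⟨by decide, fun m hm hm0 => by interval_cases m <;> decide⟩

theorem ord_five_thirtyone : orderOf ((5 : ℕ) : ZMod 31) = 3 := by
  rw [orderOf_eq_iff (by norm_num)]
  exact ⟨by decide, fun m hm hm0 => by interval_cases m <;> decide⟩

/-- The exceptional degrees are squares or fourth powers. -/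
theorem pow_not_exceptional {p n : ℕ} (hp : 2 ≤ p) (hn : 3 ≤ n) :
    p ^ n ≠ 9 ∧ p ^ n ≠ 25 ∧ p ^ n ≠ 49 ∧ p ^ n ≠ 121 ∧ p ^ n ≠ 529 := by
  by_cases hlt : p < 9 ∧ n < 10
  · obtain ⟨hp9, hn10⟩ := hlt
    interval_cases p <;> interval_cases n <;> norm_num
  · have : 529 < p ^ n := by
      rcases not_and_or.1 hlt with h | h
      · calc 529 < 9 ^ 3 := by norm_num
          _ ≤ p ^ 3 := Nat.pow_le_pow_left (not_lt.1 h) 3
          _ ≤ p ^ n := Nat.pow_le_pow_right (by omega) hn
      · calc 529 < 2 ^ 10 := by norm_num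
          _ ≤ p ^ 10 := Nat.pow_le_pow_left hp 10
          _ ≤ p ^ n := Nat.pow_le_pow_right (by omega) (not_lt.1 h)
    omega

section

variable {k : Type} [Field k] [IsAlgClosed k] [CharP k p]

/-- The general step. -/
theorem Hyp.solvable_of_prime (h : Hyp p f) (hL : Lifts.{u} p k) {r : ℕ} [hr : Fact r.Prime]
    (hn : 3 ≤ n) (hp2 : p ≠ 2) (hi : orderOf (p : ZMod r) = n) (hd : r ∣ Nat.card G)
    (hbig : r ^ 2 ∣ Nat.card G ∨ n + 1 < r) : Group.IsSolvable G := by
  classical
  obtain ⟨P⟩ : Nonempty (Sylow r G) := inferInstance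
  by_contra hns
  have hP : ¬ (P : Subgroup G).Normal := fun hP =>
    hns (h.solvable_of_normal hi (by omega) hd P hP)
  have hdvd := n_dvd hi (by omega : 1 ≤ n)
  have hr1 := hr.out.two_le
  by_cases hsq : r ^ 2 ∣ Nat.card G
  · refine hP (normal_of_sq hL h.cop (ext k f) (ext_injective h) ?_
      (fun y hy a b => h.comm hi (by omega) y hy a b) hsq P)
    obtain ⟨t, ht⟩ := hdvd
    rcases Nat.eq_zero_or_pos t with rfl | ht0
    · omega
    · have : n ≤ n * t := Nat.le_mul_of_pos_right n ht0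
      omega
  have hgt : n + 1 < r := hbig.resolve_left hsq
  obtain ⟨t, ht⟩ := hdvd
  have ht2 : 2 ≤ t := by
    by_contra h2
    rcases (by omega : t = 0 ∨ t = 1) with rfl | rfl <;> omega
  have hge : 2 * n + 1 ≤ r := by
    have : n * 2 ≤ n * t := Nat.mul_le_mul_left n ht2
    omega
  rcases hge.lt_or_eq with hlt | heq
  · exact hP (normal_of_gt hL h.cop (ext k f) (ext_injective h) hlt P)
  · exact half_arith hp.out hn (heq ▸ hr.out) h.cop (h.dvd_card (by omega))
      (h.card_center_dvd hL hgt P hP)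
      (heq ▸ half_bound hL h.cop (ext k f) (ext_injective h) heq.symm hd hsq P hP) hp2

/-- An abelian normal Sylow subgroup lies in the centraliser of an element of order `r`. -/
theorem Hyp.normal_sylow_dvd (h : Hyp p f) (hL : Lifts.{u} p k) {r s : ℕ} [hr : Fact r.Prime]
    [hs : Fact s.Prime] (hn : 1 ≤ n) (hi : orderOf (p : ZMod r) = n) (hnr : n < r) (hns : n < s)
    {x : G} (hx : orderOf x = r) (S : Sylow s G) (hS : (S : Subgroup G).Normal) :
    ∀ a ∈ (S : Subgroup G), a * x = x * a ∧ orderOf a ∣ p ^ n - 1 := by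
  intro a ha
  obtain ⟨φ, hφ, hfaith, m, hm, hφ1⟩ := hL G h.cop n (ext k f) (ext_injective h)
  have hc := H14.SmallDegree.sylow_comm S hφ hfaith hφ1 (by omega)
  haveI := hS
  have h1 := commute_of_normal hL h hnr hx (S : Subgroup G) hc ha
  exact ⟨h1, h.orderOf_dvd hi hn hx h1⟩

/-- No elements of order 13 in the case `(p, n) = (3, 4)`. -/
theorem not_thirteen_dvd {f : G →* Matrix (Fin 4) (Fin 4) (ZMod 3)} [CharP k 3]
    (h : Hyp 3 f) (hL : Lifts.{u} 3 k) : ¬ 13 ∣ Nat.card G := by
  classical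
  haveI : Fact (Nat.Prime 13) := ⟨by norm_num⟩
  haveI : Fact (Nat.Prime 5) := ⟨by norm_num⟩
  have hd := h.dvd_card (n := 4) (by norm_num)
  have hi : orderOf ((3 : ℕ) : ZMod 5) = 4 := ord_three_five
  obtain ⟨x, hx⟩ := exists_prime_orderOf_dvd_card' (G := G) 5 ((by norm_num : 5 ∣ 3 ^ 4 - 1).trans hd)
  intro h13
  obtain ⟨S⟩ : Nonempty (Sylow 13 G) := inferInstance
  have hSn := normal_of_gt hL h.cop (ext k f) (ext_injective h) (by norm_num) S
  obtain ⟨s, hs⟩ := exists_prime_orderOf_dvd_card' (G := (S : Subgroup G)) 13 (by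
    rw [S.card_eq_multiplicity]
    exact dvd_pow_self 13
      ((Nat.Prime.factorization_pos_of_dvd (by norm_num) Nat.card_pos.ne' h13).ne'))
  have h2 := (h.normal_sylow_dvd hL (by norm_num) hi (by norm_num) (by norm_num) hx S hSn
    s s.2).2
  rw [Subgroup.orderOf_coe, hs] at h2
  norm_num at h2

/-- `(p, n) = (3, 4)`. -/
theorem solvable_three_four {f : G →* Matrix (Fin 4) (Fin 4) (ZMod 3)} [CharP k 3]
    (h : Hyp 3 f) (hL : Lifts.{u} 3 k) : Group.IsSolvable G := by
  classical
  haveI : Fact (Nat.Prime 13) := ⟨by norm_num⟩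
  haveI : Fact (Nat.Prime 5) := ⟨by norm_num⟩
  have hd := h.dvd_card (n := 4) (by norm_num)
  have hi : orderOf ((3 : ℕ) : ZMod 5) = 4 := ord_three_five
  obtain ⟨x, hx⟩ := exists_prime_orderOf_dvd_card' (G := G) 5 ((by norm_num : 5 ∣ 3 ^ 4 - 1).trans hd)
  have hgl := h.card_dvd_gl
  have h13 : ¬ 13 ∣ Nat.card G := not_thirteen_dvd h hL
  refine H33.isSolvable_of_two_primes Nat.prime_two (by norm_num : Nat.Prime 5) fun q hq hqd => ?_
  have h3 : q ≠ 3 := fun e => h.cop (e ▸ hqd)
  have h4 : q ≠ 13 := fun e => h13 (e ▸ hqd)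
  have h5 := hqd.trans hgl
  rw [Fin.prod_univ_four] at h5
  norm_num at h5
  have h6 : q ∣ 2 ^ 9 * 3 ^ 6 * 5 * 13 := by norm_num; exact h5
  rcases (Nat.Prime.dvd_mul hq).1 h6 with h7 | h7
  rcases (Nat.Prime.dvd_mul hq).1 h7 with h8 | h8
  rcases (Nat.Prime.dvd_mul hq).1 h8 with h9 | h9
  · exact Or.inl ((Nat.prime_dvd_prime_iff_eq hq Nat.prime_two).1 (hq.dvd_of_dvd_pow h9))
  · exact absurd ((Nat.prime_dvd_prime_iff_eq hq Nat.prime_three).1 (hq.dvd_of_dvd_pow h9)) h3
  · exact Or.inr ((Nat.prime_dvd_prime_iff_eq hq (by norm_num)).1 h8)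
  · exact absurd ((Nat.prime_dvd_prime_iff_eq hq (by norm_num)).1 h7) h4

/-- `(p, n) = (3, 6), (5, 6)`: a prime `s` of `p ^ 3 - 1` with normal Sylow subgroup. -/
theorem Hyp.solvable_six {f : G →* Matrix (Fin 6) (Fin 6) (ZMod p)} (h : Hyp p f)
    (hL : Lifts.{u} p k) (hp2 : p ≠ 2) (s : ℕ) [hs : Fact s.Prime]
    (hi : orderOf ((p : ℕ) : ZMod 7) = 6) (h7 : 7 ∣ p ^ 6 - 1) (hs7 : 6 < s)
    (hsd : s ∣ p ^ 6 - 1) (hs2 : ¬ s ^ 2 ∣ p ^ 6 - 1)
    (hos : orderOf (p : ZMod s) = 3) (hnorm : ∀ S : Sylow s G, (S : Subgroup G).Normal) :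
    Group.IsSolvable G := by
  classical
  haveI : Fact (Nat.Prime 7) := ⟨by norm_num⟩
  have hd := h.dvd_card (n := 6) (by norm_num)
  by_cases h49 : 7 ^ 2 ∣ Nat.card G
  · exact h.solvable_of_prime hL (by norm_num) hp2 hi (h7.trans hd) (Or.inl h49)
  obtain ⟨x, hx⟩ := exists_prime_orderOf_dvd_card' (G := G) 7 (h7.trans hd)
  obtain ⟨S⟩ : Nonempty (Sylow s G) := inferInstance
  haveI hSn := hnorm S
  have hsg : s ∣ Nat.card G := hsd.trans hd
  obtain ⟨t, ht⟩ := exists_prime_orderOf_dvd_card' (G := (S : Subgroup G)) s (by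
    rw [S.card_eq_multiplicity]
    exact dvd_pow_self s ((hs.out.factorization_pos_of_dvd Nat.card_pos.ne' hsg).ne'))
  have hall := h.normal_sylow_dvd hL (by norm_num) hi (by norm_num) hs7 hx S hSn
  -- `S = ⟨z⟩` has order `s`
  set z : G := (t : G) with hzdef
  have hz : orderOf z = s := by rw [hzdef, Subgroup.orderOf_coe, ht]
  have hscard : Nat.card (S : Subgroup G) = s := by
    obtain ⟨a, ha⟩ := S.isPGroup'.exists_card_eq
    obtain ⟨hcy, -⟩ := h.singer hi (by norm_num) hx
    let emb : (S : Subgroup G) →*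
        ↥(Subgroup.centralizer ({f.toHomUnits x} : Set (GL (Fin 6) (ZMod p)))) :=
      (f.toHomUnits.comp (S : Subgroup G).subtype).codRestrict _ (fun y => by
        rw [Subgroup.mem_centralizer_singleton_iff]
        simp only [MonoidHom.comp_apply, Subgroup.coe_subtype, ← map_mul, (hall y y.2).1])
    haveI : IsCyclic (S : Subgroup G) := isCyclic_of_injective emb (fun a b hab =>
      Subtype.ext (toHomUnits_injective h (congrArg Subtype.val hab)))
    obtain ⟨c, hc⟩ := IsCyclic.exists_generator (α := (S : Subgroup G))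
    have hoc : orderOf c = Nat.card (S : Subgroup G) := orderOf_eq_card_of_forall_mem_zpowers hc
    have h1 := (hall c c.2).2
    rw [Subgroup.orderOf_coe, hoc, ha] at h1
    have ha1 : a ≤ 1 := by
      by_contra h2
      exact hs2 ((pow_dvd_pow s (by omega : 2 ≤ a)).trans h1)
    have ha0 : a ≠ 0 := by
      rintro rfl
      have h3 := orderOf_dvd_natCard t
      rw [ha, ht, pow_zero, Nat.dvd_one] at h3
      exact hs.out.ne_one h3
    rw [ha, show a = 1 by omega, pow_one]
  have hSz : ∀ g : G, ∃ i : ℤ, g * z * g⁻¹ = z ^ i := by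
    intro g
    have h1 : Subgroup.zpowers z = (S : Subgroup G) :=
      Subgroup.eq_of_le_of_card_ge (Subgroup.zpowers_le.2 t.2) (by
        rw [hscard, Nat.card_zpowers, hz])
    have h2 : g * z * g⁻¹ ∈ Subgroup.zpowers z := h1.symm ▸ hSn.conj_mem z t.2 g
    obtain ⟨i, hi⟩ := Subgroup.mem_zpowers_iff.1 h2
    exact ⟨i, hi.symm⟩
  have hxz : z * x = x * z := (hall z t.2).1
  -- no fixed vectors
  have hne1 : ∀ μ : k, esp (ext k f z) μ ≠ ⊥ → μ ≠ 1 := by
    rintro μ hμ rfl
    have h1 : f z = (1 : ZMod p) • 1 := by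
      refine h.scalar_of_eigen (k := k) z (c := 1) (fun g v hv => ?_) (by simpa using hμ)
      rw [one_smul] at hv ⊢
      obtain ⟨i, hi'⟩ := hSz g⁻¹
      have hfix : ∀ j : ℤ, (f (z ^ j)).mulVec v = v := by
        intro j
        have hst : z ∈ ({ carrier := {a | (f a).mulVec v = v}
                          one_mem' := by simp
                          mul_mem' := fun {a b} ha hb => by
                            simp only [Set.mem_setOf_eq] at *
                            rw [map_mul, ← Matrix.mulVec_mulVec, hb, ha]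
                          inv_mem' := fun {a} ha => by
                            simp only [Set.mem_setOf_eq] at *
                            conv_lhs => rw [← ha]
                            rw [Matrix.mulVec_mulVec, ← map_mul, inv_mul_cancel, map_one,
                              Matrix.one_mulVec] } : Subgroup G) := hv
        exact Subgroup.zpow_mem _ hst j
      have he : z * g = g * z ^ i := by rw [← hi']; group
      rw [Matrix.mulVec_mulVec, ← map_mul, he, map_mul, ← Matrix.mulVec_mulVec, hfix]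
    rw [one_smul] at h1
    have : z = 1 := h.inj (by rw [h1, map_one])
    rw [this, orderOf_one] at hz
    exact hs.out.ne_one hz.symm
  set C := Subgroup.centralizer ((S : Subgroup G) : Set G)
  haveI : C.Normal := Subgroup.normal_centralizer
  have hxC : x ∈ C := fun a ha => (hall a ha).1
  obtain ⟨P, hP⟩ := (IsPGroup.of_card (p := 7) (G := Subgroup.zpowers x) (n := 1)
    (by rw [Nat.card_zpowers, hx, pow_one])).exists_le_sylow
  have hPc : Nat.card (P : Subgroup G) = 7 := by
    have hf : (Nat.card G).factorization 7 = 1 := by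
      have h1 := Nat.Prime.factorization_pos_of_dvd (by norm_num : Nat.Prime 7) Nat.card_pos.ne'
        (h7.trans hd)
      have h2 : ¬ 2 ≤ (Nat.card G).factorization 7 := fun h2 =>
        h49 (((by norm_num : Nat.Prime 7).pow_dvd_iff_le_factorization Nat.card_pos.ne').2 h2)
      omega
    rw [P.card_eq_multiplicity, hf, pow_one]
  have hPC : (P : Subgroup G) ≤ C := by
    rw [← Subgroup.eq_of_le_of_card_ge hP (by rw [hPc, Nat.card_zpowers, hx])]
    exact Subgroup.zpowers_le.2 hxC
  haveI : ((P.subtype hPC : Sylow 7 C) : Subgroup C).Normal := by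
    refine normal_of_eigen hL (fun hh => h.cop (hh.trans C.card_subgroup_dvd_card)) (d := 2)
      ((ext k f).comp C.subtype) ((ext_injective h).comp C.subtype_injective)
      ⟨z, Subgroup.mem_centralizer_iff.2 fun a ha => ?_⟩
      (fun g => Subtype.ext ((Subgroup.mem_centralizer_iff.1 g.2 z t.2).symm)) (fun μ => ?_)
      (by norm_num) _
    · obtain ⟨φ, hφ, hfaith, m, hm, hφ1⟩ := hL G h.cop 6 (ext k f) (ext_injective h)
      exact H14.SmallDegree.sylow_comm S hφ hfaith hφ1 (by omega) a ha z t.2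
    show finrank k (esp (ext k f z) μ) ≤ 2
    by_cases hb : esp (ext k f z) μ = ⊥
    · rw [hb, finrank_bot]; omega
    have hμ1 := hne1 μ hb
    have hμs : μ ^ s = 1 := by
      obtain ⟨w, hw, hw0⟩ := Submodule.exists_mem_ne_zero_of_ne_bot hb
      rw [mem_esp] at hw
      have h1 : ∀ j : ℕ, ((ext k f z) ^ j).mulVec w = μ ^ j • w := by
        intro j
        induction j with
        | zero => simp
        | succ j ih =>
          rw [pow_succ, ← Matrix.mulVec_mulVec, hw, Matrix.mulVec_smul, ih, smul_smul, pow_succ,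
            mul_comm]
      have h2 := h1 s
      rw [← map_pow, ← hz, pow_orderOf_eq_one, map_one, Matrix.one_mulVec, hz] at h2
      have h3 : (μ ^ s - 1) • w = 0 := by rw [sub_smul, one_smul, ← h2, sub_self]
      exact sub_eq_zero.1 ((smul_eq_zero.1 h3).resolve_right hw0)
    have hμo : orderOf μ = s := orderOf_eq_prime hμs hμ1
    have hdist : ∀ i j : ℕ, i < j → j < 3 → μ ^ p ^ i ≠ μ ^ p ^ j := by
      intro i j hij hj he
      replace he : p ^ i % s = p ^ j % s := by
        rw [← pow_mod_orderOf μ (p ^ i), ← pow_mod_orderOf μ (p ^ j), hμo] at he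
        exact pow_injOn_Iio_orderOf (x := μ) (by rw [Set.mem_Iio, hμo]; exact Nat.mod_lt _ hs.out.pos)
          (by rw [Set.mem_Iio, hμo]; exact Nat.mod_lt _ hs.out.pos) he
      have h2 : ((p : ZMod s)) ^ i = (p : ZMod s) ^ j := by
        rw [← Nat.cast_pow, ← Nat.cast_pow]
        exact (ZMod.natCast_eq_natCast_iff' _ _ _).2 he
      have h3 : i = j := (pow_injOn_Iio_orderOf (x := (p : ZMod s)))
        (by rw [Set.mem_Iio, hos]; omega) (by rw [Set.mem_Iio, hos]; omega) h2
      omega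
    have h01 : μ ≠ μ ^ p := by simpa using hdist 0 1 (by omega) (by omega)
    have h02 : μ ≠ μ ^ p ^ 2 := by simpa using hdist 0 2 (by omega) (by omega)
    have h12 : μ ^ p ≠ μ ^ p ^ 2 := by simpa using hdist 1 2 (by omega) (by omega)
    have h3 := three_eigenspaces (ext k f z) h01 h02 h12
    have h4 := finrank_le_frob (k := k) (f z) μ
    have h5 := finrank_le_frob (k := k) (f z) (μ ^ p)
    rw [← pow_mul, ← pow_two] at h5
    rw [ext_apply] at h3 ⊢
    omega
  haveI := (P.subtype hPC).characteristic_of_normal inferInstance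
  have hmap : ((P.subtype hPC : Sylow 7 C) : Subgroup C).map C.subtype = (P : Subgroup G) := by
    rw [Sylow.coe_subtype, Subgroup.map_subgroupOf_eq_of_le hPC]
  exact h.solvable_of_normal hi (by norm_num) (h7.trans hd) P (hmap ▸ inferInstance)

end

/-- The matrix form. -/
theorem core (hn : 3 ≤ n) (h : Hyp p f) : Group.IsSolvable G := by
  classical
  by_cases hp2 : p = 2
  · subst hp2
    exact H16.FT.oddOrder (Nat.not_even_iff_odd.1 fun he => h.cop (even_iff_two_dvd.1 he))
  obtain ⟨k, _, _, _, hL⟩ := exists_lifts.{u} p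
  have hd := h.dvd_card (by omega)
  by_cases hex : (p = 3 ∧ n = 4) ∨ (p = 3 ∧ n = 6) ∨ (p = 5 ∧ n = 6)
  · rcases hex with ⟨rfl, rfl⟩ | ⟨rfl, rfl⟩ | ⟨rfl, rfl⟩
    · exact solvable_three_four h hL
    · haveI : Fact (Nat.Prime 13) := ⟨by norm_num⟩
      refine h.solvable_six hL (by norm_num) 13 ?_ (by norm_num) (by norm_num) (by norm_num)
        (by norm_num) ?_ fun S => ?_
      · exact ord_three_seven
      · exact ord_three_thirteen
      · obtain ⟨φ, hφ, hfaith, m, hm, hφ1⟩ := hL G h.cop 6 (ext k f) (ext_injective h)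
        refine H14.SmallDegree.sylow_normal φ hφ hfaith hφ1 ⟨by omega, Or.inr fun K hK Q => ?_⟩ S
        by_cases hd13 : 13 ∣ Nat.card K
        · by_contra hQ
          have hA' : ¬ 3 ∣ Nat.card K := fun e => h.cop (e.trans K.card_subgroup_dvd_card)
          have h1 := half_bound hL hA' ((ext k f).comp K.subtype)
            ((ext_injective h).comp K.subtype_injective) (by norm_num) hd13 hK Q hQ
          apply hA'
          have h2 : 3 ∣ 2 * Nat.card K :=
            h1 ▸ dvd_mul_of_dvd_right (by norm_num) _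
          exact ((Nat.Coprime.dvd_mul_left (by decide)).1 h2)
        · have h0 : (Q : Subgroup K) = ⊥ := by
            rw [← Subgroup.card_eq_one, Q.card_eq_multiplicity,
              Nat.factorization_eq_zero_of_not_dvd hd13, pow_zero]
          rw [h0]
          infer_instance
    · haveI : Fact (Nat.Prime 31) := ⟨by norm_num⟩
      refine h.solvable_six hL (by norm_num) 31 ?_ (by norm_num) (by norm_num) (by norm_num)
        (by norm_num) ?_ fun S => normal_of_gt hL h.cop (ext k f) (ext_injective h) (by norm_num) S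
      · exact ord_five_seven
      · exact ord_five_thirtyone
  obtain ⟨r, hr, hrd, hprim, hbig⟩ := H60.LargePPD.exists_large (q := p) hp.out.two_le hn
    (fun e => hp2 e.1) (fun e => hex (by rcases e with ⟨e1, e2 | e2⟩ <;> simp [e1, e2]))
    (fun e => hex (by simp [e.1, e.2]))
  haveI := Fact.mk hr
  have hi : orderOf (p : ZMod r) = n := by
    rw [orderOf_eq_iff (by omega)]
    refine ⟨?_, fun i hin hi0 he => hprim i hi0 hin ?_⟩
    · rw [← Nat.cast_pow, ← Nat.cast_one (R := ZMod r)]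
      exact ((ZMod.natCast_eq_natCast_iff _ _ _).2
        ((Nat.modEq_iff_dvd' (Nat.one_le_pow _ _ hp.out.pos)).2 hrd)).symm
    · rw [← Nat.cast_pow, ← Nat.cast_one (R := ZMod r)] at he
      exact (Nat.modEq_iff_dvd' (Nat.one_le_pow _ _ hp.out.pos)).1
        ((ZMod.natCast_eq_natCast_iff _ _ _).1 he.symm)
  exact h.solvable_of_prime hL hn hp2 hi (hrd.trans hd)
    (hbig.symm.imp (fun e => e.trans hd) id)

end H13.CT

namespace H13.CT

universe u v

/-- Passage to matrices. -/
theorem exists_hyp {p : ℕ} [Fact p.Prime] {V : Type v} [AddCommGroup V] [Module (ZMod p) V]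
    [Finite V] {G : Type u} [Group G] [Finite G] {n : ℕ} (ρ : G →* (V ≃ₗ[ZMod p] V))
    (hinj : Function.Injective ρ) (hcop : ¬ p ∣ Nat.card G)
    (htrans : ∀ v w : V, v ≠ 0 → w ≠ 0 → ∃ g : G, ρ g v = w)
    (hn : Module.finrank (ZMod p) V = n) :
    ∃ f : G →* Matrix (Fin n) (Fin n) (ZMod p), Hyp p f := by
  haveI : Module.Finite (ZMod p) V := Module.Finite.of_finite
  let e : V ≃ₗ[ZMod p] (Fin n → ZMod p) := (Module.finBasisOfFinrankEq (ZMod p) V hn).equivFun
  let f : G →* Matrix (Fin n) (Fin n) (ZMod p) :=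
    { toFun := fun g => LinearMap.toMatrix' (e.toLinearMap ∘ₗ (ρ g).toLinearMap ∘ₗ e.symm.toLinearMap)
      map_one' := by
        rw [map_one]
        have : e.toLinearMap ∘ₗ ((1 : V ≃ₗ[ZMod p] V)).toLinearMap ∘ₗ e.symm.toLinearMap =
            LinearMap.id := by
          ext v; simp
        rw [this, LinearMap.toMatrix'_id]
      map_mul' := fun a b => by
        rw [← LinearMap.toMatrix'_comp, map_mul]
        congr 1
        ext v
        simp }
  have happ : ∀ g v, (f g).mulVec v = e (ρ g (e.symm v)) := fun g v => by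
    show (LinearMap.toMatrix' _).mulVec v = _
    rw [← Matrix.toLin'_apply, Matrix.toLin'_toMatrix']
    rfl
  refine ⟨f, hcop, fun a b hab => hinj (LinearEquiv.ext fun v => ?_),
    fun v w hv hw => ?_⟩
  · have h1 := happ a (e v)
    rw [hab, happ b (e v)] at h1
    simpa using h1.symm
  · obtain ⟨g, hg⟩ := htrans (e.symm v) (e.symm w)
      (fun h0 => hv (e.symm.injective (by rw [h0, map_zero])))
      (fun h0 => hw (e.symm.injective (by rw [h0, map_zero])))
    exact ⟨g, by rw [happ, hg, LinearEquiv.apply_symm_apply]⟩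

/-- A coprime linear group transitive on the non-zero vectors, dimension at least 3, is solvable. -/
theorem isSolvable (p : ℕ) [Fact p.Prime] {V : Type v} [AddCommGroup V] [Module (ZMod p) V]
    [Finite V] {G : Type u} [Group G] [Finite G] (ρ : G →* (V ≃ₗ[ZMod p] V))
    (hinj : Function.Injective ρ) (hcop : ¬ p ∣ Nat.card G)
    (htrans : ∀ v w : V, v ≠ 0 → w ≠ 0 → ∃ g : G, ρ g v = w)
    (hn : 3 ≤ Module.finrank (ZMod p) V) : Group.IsSolvable G := by
  obtain ⟨f, hf⟩ := exists_hyp ρ hinj hcop htrans rfl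
  exact core hn hf

/-- With S3360: semilinear, or 81 elements. -/
theorem semilinear_or (p : ℕ) [Fact p.Prime] {V : Type v} [AddCommGroup V] [Module (ZMod p) V]
    [Finite V] {G : Type u} [Group G] [Finite G] (ρ : G →* (V ≃ₗ[ZMod p] V))
    (hinj : Function.Injective ρ) (hcop : ¬ p ∣ Nat.card G)
    (htrans : ∀ v w : V, v ≠ 0 → w ≠ 0 → ∃ g : G, ρ g v = w)
    (hn : 3 ≤ Module.finrank (ZMod p) V) :
    (∃ (F : Type) (_ : Field F) (_ : Fintype F) (e : V ≃+ F),
        ∀ g : G, ∃ (a : F) (σ : F ≃+* F), ∀ v : V, e (ρ g v) = a * σ (e v)) ∨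
    Nat.card V = 81 := by
  haveI : Nontrivial V := Module.nontrivial_of_finrank_pos (R := ZMod p) (by omega)
  refine (Cfsg.Agent.S3360.result p (isSolvable p ρ hinj hcop htrans hn) ρ hinj htrans).imp id
    fun h => ?_
  have hcard : Nat.card V = p ^ Module.finrank (ZMod p) V := by
    haveI : Module.Finite (ZMod p) V := Module.Finite.of_finite
    rw [Module.natCard_eq_pow_finrank (K := ZMod p), Nat.card_zmod]
  set n := Module.finrank (ZMod p) V
  simp only [Set.mem_insert_iff, Set.mem_singleton_iff] at h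
  have := pow_not_exceptional (Fact.out : p.Prime).two_le hn
  omega

/-- The exceptional case `|V| = 81`: the order is `80 · k` with `k ∣ 32`. -/
theorem order_eighty_one {V : Type v} [AddCommGroup V] [Module (ZMod 3) V] [Finite V]
    {G : Type u} [Group G] [Finite G] (ρ : G →* (V ≃ₗ[ZMod 3] V))
    (hinj : Function.Injective ρ) (hcop : ¬ 3 ∣ Nat.card G)
    (htrans : ∀ v w : V, v ≠ 0 → w ≠ 0 → ∃ g : G, ρ g v = w)
    (h81 : Nat.card V = 81) : 80 ∣ Nat.card G ∧ Nat.card G ∣ 2 ^ 9 * 5 := by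
  haveI : Fact (Nat.Prime 3) := ⟨Nat.prime_three⟩
  haveI : Fact (Nat.Prime 13) := ⟨by norm_num⟩
  haveI : Fact (Nat.Prime 5) := ⟨by norm_num⟩
  haveI : Module.Finite (ZMod 3) V := Module.Finite.of_finite
  have hn : Module.finrank (ZMod 3) V = 4 := by
    have h1 := Module.natCard_eq_pow_finrank (K := ZMod 3) (V := V)
    rw [h81, Nat.card_zmod] at h1
    exact Nat.pow_right_injective (le_refl 2 |>.trans (by norm_num)) (h1.symm.trans (by norm_num))
  obtain ⟨f, hf⟩ := exists_hyp (n := 4) ρ hinj hcop htrans hn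
  have hd := hf.dvd_card (n := 4) (by norm_num)
  refine ⟨(by norm_num : 80 ∣ 3 ^ 4 - 1).trans hd, ?_⟩
  have h13 : ¬ 13 ∣ Nat.card G := by
    obtain ⟨k, _, _, _, hL⟩ := exists_lifts.{u} 3
    exact not_thirteen_dvd (k := k) hf hL
  have h5 := hf.card_dvd_gl
  rw [Fin.prod_univ_four] at h5
  norm_num at h5
  have h6 : Nat.card G ∣ (2 ^ 9 * 5) * (3 ^ 6 * 13) := by norm_num; exact h5
  refine (Nat.Coprime.dvd_of_dvd_mul_right ?_ h6)
  exact Nat.Coprime.mul_right
    (Nat.Coprime.pow_right 6 ((Nat.prime_three.coprime_iff_not_dvd.2 hcop).symm))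
    (((by norm_num : Nat.Prime 13).coprime_iff_not_dvd.2 h13).symm)

end H13.CT
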