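import Cfsg.Agent.H13.CT.Basic

/-!
# Coprime transitive linear groups: the steps

A prime `r` with a large power, or `r > 2n + 1`, gives a normal Sylow subgroup; `r = 2n + 1` gives
an order bound through the centre; an abelian normal subgroup commutes with the elements of order
`r`.
-/

set_option autoImplicit false
set_option linter.unusedSectionVars false
set_option linter.unusedVariables false
set_option linter.style.haveILetI false

open Cfsg Module

namespace H13.CT

universe u

variable {p : ℕ} [hp : Fact p.Prime] {k : Type} [Field k] [IsAlgClosed k] [CharP k p]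
  {G : Type u} [Group G] [Finite G] {n : ℕ} {f : G →* Matrix (Fin n) (Fin n) (ZMod p)}

/-- The representation over `k`. -/
noncomputable def ext (k : Type) [Field k] [CharP k p] (f : G →* Matrix (Fin n) (Fin n) (ZMod p)) :
    G →* Matrix (Fin n) (Fin n) k :=
  (ZMod.castHom (dvd_refl p) k).mapMatrix.toMonoidHom.comp f

theorem ext_apply (g : G) : ext k f g = (f g).map (ZMod.castHom (dvd_refl p) k) := rfl

theorem ext_injective (h : Hyp p f) : Function.Injective (ext k f) := fun a b hab => h.inj (by
  ext i j
  exact (ZMod.castHom (dvd_refl p) k).injective (congrFun (congrFun hab i) j))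

/-- The fixed points of the Frobenius map. -/
theorem exists_cast_of_pow_eq {μ : k} (h : μ ^ p = μ) :
    ∃ c : ZMod p, ZMod.castHom (dvd_refl p) k c = μ := by
  classical
  by_contra hno
  push Not at hno
  set σ := ZMod.castHom (dvd_refl p) k
  set q : Polynomial k := Polynomial.X ^ p - Polynomial.X with hq
  have hdeg : q.natDegree = p := FiniteField.X_pow_card_sub_X_natDegree_eq k hp.out.one_lt
  have hq0 : q ≠ 0 := FiniteField.X_pow_card_sub_X_ne_zero k hp.out.one_lt
  let S : Finset k := insert μ (Finset.univ.image σ)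
  have hS : S.val ⊆ q.roots := by
    intro x hx
    have hx' : x ∈ S := hx
    rw [Polynomial.mem_roots hq0, Polynomial.IsRoot, hq]
    rcases Finset.mem_insert.1 hx' with rfl | hx''
    · simp [h]
    · obtain ⟨c, -, rfl⟩ := Finset.mem_image.1 hx''
      simp [← map_pow, ZMod.pow_card]
  have h1 := Multiset.card_le_card (Multiset.le_iff_subset S.nodup |>.2 hS)
  have h2 : S.card = p + 1 := by
    rw [Finset.card_insert_of_notMem, Finset.card_image_of_injective _ σ.injective,
      Finset.card_univ, ZMod.card]
    intro hc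
    obtain ⟨c, -, hc'⟩ := Finset.mem_image.1 hc
    exact hno c hc'
  have h3 := Polynomial.card_roots' q
  rw [hdeg] at h3
  have h4 : S.card ≤ Multiset.card q.roots := h1
  omega

variable (h : Hyp p f)

/-- An element whose fixed or eigen space over the prime field is invariant. -/
theorem Hyp.scalar_of_eigen (h : Hyp p f) (z : G) {c : ZMod p}
    (hinv : ∀ (g : G) (v : Fin n → ZMod p), (f z).mulVec v = c • v →
      (f z).mulVec ((f g).mulVec v) = c • (f g).mulVec v)
    (hne : esp (ext k f z) (ZMod.castHom (dvd_refl p) k c) ≠ ⊥) : f z = c • 1 := by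
  obtain ⟨v, hv0, hv⟩ := exists_fix_of_esp_ne_bot (f z) c hne
  refine Matrix.toLin'.injective (LinearMap.ext fun w => ?_)
  rw [Matrix.toLin'_apply, Matrix.toLin'_apply, Matrix.smul_mulVec, Matrix.one_mulVec]
  by_cases hw : w = 0
  · simp [hw]
  obtain ⟨g, rfl⟩ := h.trans v w hv0 hw
  exact hinv g v hv

/-- A central element is a scalar, unless the Sylow subgroup is normal. -/
theorem Hyp.center_scalar (h : Hyp p f) (hL : Lifts.{u} p k) {r : ℕ} [Fact r.Prime]
    (hr : n + 1 < r) (P : Sylow r G) (hP : ¬ (P : Subgroup G).Normal)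
    (z : G) (hz : z ∈ Subgroup.center G) : ∃ c : ZMod p, f z = c • 1 := by
  by_contra hno
  push Not at hno
  refine hP (normal_of_eigen hL h.cop (d := n / 2) (ext k f) (ext_injective h) z
    (Subgroup.mem_center_iff.1 hz) (fun μ => ?_) (by omega) P)
  by_cases hμ : μ ^ p = μ
  · obtain ⟨c, rfl⟩ := exists_cast_of_pow_eq hμ
    by_contra hd
    refine hno c (h.scalar_of_eigen (k := k) z (fun g v hv => ?_) fun h0 => ?_)
    · rw [Matrix.mulVec_mulVec, ← map_mul, ← Subgroup.mem_center_iff.1 hz g, map_mul,
        ← Matrix.mulVec_mulVec, hv, Matrix.mulVec_smul]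
    · rw [h0, finrank_bot] at hd
      omega
  · have h1 := two_eigenspaces (ext k f z) (Ne.symm hμ)
    have h2 := finrank_le_frob (k := k) (f z) μ
    rw [ext_apply] at h1 ⊢
    omega

/-- The order of the centre. -/
theorem Hyp.card_center_dvd (h : Hyp p f) (hL : Lifts.{u} p k) {r : ℕ} [Fact r.Prime]
    (hr : n + 1 < r) (P : Sylow r G) (hP : ¬ (P : Subgroup G).Normal) :
    Nat.card (Subgroup.center G) ∣ p - 1 := by
  let σ : (ZMod p)ˣ →* GL (Fin n) (ZMod p) :=
    Units.map (algebraMap (ZMod p) (Matrix (Fin n) (Fin n) (ZMod p))).toMonoidHom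
  have hle : (Subgroup.center G).map f.toHomUnits ≤ σ.range := by
    rintro _ ⟨z, hz, rfl⟩
    obtain ⟨c, hc⟩ := h.center_scalar hL hr P hP z hz
    by_cases hn : n = 0
    · subst hn
      exact ⟨1, Subsingleton.elim _ _⟩
    have hc0 : c ≠ 0 := by
      rintro rfl
      haveI : Nonempty (Fin n) := ⟨⟨0, Nat.pos_of_ne_zero hn⟩⟩
      have hu := (f.toHomUnits z).isUnit
      rw [MonoidHom.coe_toHomUnits, hc, zero_smul] at hu
      exact not_isUnit_zero hu
    refine ⟨Units.mk0 c hc0, Units.ext ?_⟩
    rw [MonoidHom.coe_toHomUnits, hc]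
    simp [σ, Algebra.algebraMap_eq_smul_one]
  have h1 := Subgroup.card_dvd_of_le hle
  rw [Subgroup.card_map_of_injective (toHomUnits_injective h)] at h1
  refine h1.trans ((Subgroup.card_range_dvd σ).trans ?_)
  rw [Nat.card_units, Nat.card_zmod]

/-- An abelian normal subgroup commutes with elements of order `r > n`. -/
theorem commute_of_normal (hL : Lifts.{u} p k) (h : Hyp p f) {r : ℕ} [hr : Fact r.Prime]
    (hnr : n < r) {x : G} (hx : orderOf x = r) (S : Subgroup G) [S.Normal]
    (hS : ∀ a ∈ S, ∀ b ∈ S, a * b = b * a) {s : G} (hs : s ∈ S) : s * x = x * s := by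
  classical
  obtain ⟨φ, hφ, hfaith, m, hm, hφ1⟩ := hL G h.cop n (ext k f) (ext_injective h)
  letI : Fintype S := Fintype.ofFinite S
  have hψ : IsCharacter S (fun a : S => φ a) := H12.IsCharacter.res hφ S
  obtain ⟨c, hc⟩ := H12.IsCharacter.exists_mult hψ
  have hcomm : ∀ a b : S, a * b = b * a := fun a b => Subtype.ext (hS a a.2 b b.2)
  have hψv : ∀ a : S, φ a = ∑ θ : IrrCharacter S, (c θ : ℂ) * (θ : S → ℂ) a := fun a => by
    simpa using congrFun hc a
  let α : S ≃* S := MulAut.conjNormal x
  have hα : ∀ a : S, φ (α a) = φ a := fun a => by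
    rw [show ((α a : S) : G) = x * a * x⁻¹ from MulAut.conjNormal_apply x a]
    exact H12.IsCharacter.isClassFunction hφ a x
  let T : IrrCharacter S → IrrCharacter S := fun θ =>
    ⟨(θ : S → ℂ) ∘ α.toMonoidHom, H12.IsIrrCharacter.comp_surjective θ.2 α.surjective⟩
  have hT : ∀ θ, c (T θ) = c θ := by
    intro θ
    have h1 : ∀ η : IrrCharacter S, classInner (fun a : S => φ a) η = c η := fun η => by
      rw [hc]; exact H12.classInner_sum_smul_irr _ η
    have h2 : classInner (fun a : S => φ a) (T θ) = classInner (fun a : S => φ a) θ := by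
      rw [H12.classInner_def, H12.classInner_def]
      congr 1
      refine Fintype.sum_equiv α.toEquiv _ _ fun a => ?_
      show φ a * _ = φ (α a) * _
      rw [hα]
      rfl
    rw [h1, h1] at h2
    exact_mod_cast h2
  have hTpow : ∀ (i : ℕ) (θ : IrrCharacter S) (a : S),
      (T^[i] θ : S → ℂ) a = (θ : S → ℂ) ((MulAut.conjNormal (x ^ i) : S ≃* S) a) := by
    intro i
    induction i with
    | zero => intro θ a; simp
    | succ i ih =>
      intro θ a
      rw [Function.iterate_succ_apply', show (T (T^[i] θ) : S → ℂ) a = (T^[i] θ : S → ℂ) (α a)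
        from rfl, ih, pow_succ, map_mul]
      rfl
  have hfix : ∀ θ : IrrCharacter S, c θ ≠ 0 → T θ = θ := by
    intro θ hθ
    by_contra hne
    have hper : Function.IsPeriodicPt T r θ := by
      apply Subtype.ext
      funext a
      rw [hTpow, ← hx, pow_orderOf_eq_one, map_one]
      rfl
    have hdvd := hper.minimalPeriod_dvd
    have hmp : Function.minimalPeriod T θ = r := by
      rcases (Nat.dvd_prime hr.out).1 hdvd with h1 | h1
      · exact absurd (Function.minimalPeriod_eq_one_iff_isFixedPt.1 h1) hne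
      · exact h1
    let O : Finset (IrrCharacter S) := (Finset.range r).image fun i => T^[i] θ
    have hO : O.card = r := by
      rw [Finset.card_image_of_injOn, Finset.card_range]
      intro i hi j hj hij
      exact Function.iterate_injOn_Iio_minimalPeriod (by simpa [hmp] using hi)
        (by simpa [hmp] using hj) hij
    have hcO : ∀ η ∈ O, 1 ≤ c η := by
      intro η hη
      obtain ⟨i, -, rfl⟩ := Finset.mem_image.1 hη
      clear hη
      induction i with
      | zero => exact Nat.pos_of_ne_zero hθ
      | succ i ih => rw [Function.iterate_succ_apply', hT]; exact ih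
    have hsum : ∑ η, c η = m := by
      have h1 := hψv 1
      simp only [OneMemClass.coe_one, hφ1, H12.irr_apply_one_of_comm hcomm, mul_one] at h1
      exact_mod_cast h1.symm
    have h3 : r ≤ ∑ η, c η :=
      calc r = ∑ η ∈ O, 1 := by simp [hO]
        _ ≤ ∑ η ∈ O, c η := Finset.sum_le_sum hcO
        _ ≤ _ := Finset.sum_le_univ_sum_of_nonneg fun η => Nat.zero_le _
    omega
  set a : S := ⟨s, hs⟩
  have key : φ ((α a * a⁻¹ : S) : G) = φ 1 := by
    rw [show φ 1 = φ ((1 : S) : G) from rfl, hψv, hψv]
    refine Finset.sum_congr rfl fun θ _ => ?_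
    by_cases hθ : c θ = 0
    · simp [hθ]
    congr 1
    have h1 : (θ : S → ℂ) (α a) = (θ : S → ℂ) a :=
      congrFun (congrArg Subtype.val (hfix θ hθ)) a
    obtain ⟨l, ρ, -, hρ⟩ := θ.2
    have hl := H12.irr_apply_one_of_comm hcomm θ
    rw [← hρ, Representation.char_one, Module.finrank_fin_fun, Nat.cast_eq_one] at hl
    subst hl
    have hsc : ∀ g : S, ρ g = ρ.character g • 1 := fun g => by
      have h2 : ∃ t : ℂ, ρ g = t • 1 := ⟨ρ g (fun _ => 1) 0, by
        apply LinearMap.ext
        intro v
        funext i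
        rw [Fin.fin_one_eq_zero i]
        have hv : v = v 0 • (fun _ => (1 : ℂ)) := by
          funext i; simp [Fin.fin_one_eq_zero i]
        conv_lhs => rw [hv, map_smul]
        simp [mul_comm]⟩
      obtain ⟨t, ht⟩ := h2
      have h3 : ρ.character g = t := by
        show LinearMap.trace ℂ _ (ρ g) = t
        rw [ht, map_smul, LinearMap.trace_one]
        simp
      rw [h3, ht]
    rw [← hρ] at h1 ⊢
    show LinearMap.trace ℂ _ (ρ (α a * a⁻¹)) = LinearMap.trace ℂ _ (ρ 1)
    rw [map_mul, hsc (α a), h1, ← hsc, ← map_mul, mul_inv_cancel]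
  have h4 := hfaith _ key
  rw [Subgroup.coe_mul, Subgroup.coe_inv, show ((α a : S) : G) = x * s * x⁻¹ from
    MulAut.conjNormal_apply x a] at h4
  have h5 : x * s * x⁻¹ = s := mul_inv_eq_one.1 h4
  exact (mul_inv_eq_iff_eq_mul.1 h5).symm

end H13.CT
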