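import Cfsg.Agent.H13.CT.Lift
import Cfsg.Agent.H14.SmallDegreeSylow
import Cfsg.Agent.H14.FTBound
import Cfsg.Agent.H12.Transport
import Cfsg.Agent.H20.CharacterBound
import Cfsg.Agent.H37.SmallIso
import Cfsg.Agent.S4503
import Cfsg.Agent.S4504

/-!
# Normal Sylow subgroups of coprime linear groups for large primes

`H13.CT.normal_of_gt`: `r > 2n + 1`.  `H13.CT.normal_of_sq`: `r > n` with `r ^ 2` dividing the
order and abelian centralisers of elements of order `r` (Feit–Thompson's degree bound for an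
abelian subgroup with separated centralisers).  `H13.CT.half_bound`: the case `r = 2n + 1`.
-/

set_option autoImplicit false
set_option linter.unusedSectionVars false
set_option linter.style.haveILetI false

open Cfsg
open scoped Pointwise

namespace H13.CT

universe u

variable {p : ℕ} {k : Type} [Field k]

/-- A normal subgroup of order `r` when `r ^ 2` does not divide the order. -/
theorem normal_of_card_eq {G : Type u} [Group G] [Finite G] {r : ℕ} [hr : Fact r.Prime]
    (hsq : ¬ r ^ 2 ∣ Nat.card G) (H : Subgroup G) [H.Normal] (hH : Nat.card H = r)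
    (P : Sylow r G) : (P : Subgroup G).Normal := by
  have hP : Nat.card (P : Subgroup G) ∣ r := by
    obtain ⟨a, ha⟩ := P.isPGroup'.exists_card_eq
    rcases Nat.lt_or_ge a 2 with h | h
    · rw [ha]; exact (pow_dvd_pow r (by omega : a ≤ 1)).trans (by rw [pow_one])
    · exact absurd ((pow_dvd_pow r h).trans (ha ▸ (P : Subgroup G).card_subgroup_dvd_card)) hsq
  obtain ⟨Q, hQ⟩ := (IsPGroup.of_card (G := H) (n := 1) (by rw [hH, pow_one])).exists_le_sylow
  obtain ⟨g, hg⟩ := MulAction.exists_smul_eq G Q P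
  have hle : H ≤ (P : Subgroup G) := by
    intro x hx
    rw [← hg, Sylow.coe_subgroup_smul, Subgroup.mem_pointwise_smul_iff_inv_smul_mem]
    refine hQ ?_
    simpa [MulAut.smul_def] using (inferInstance : H.Normal).conj_mem x hx g⁻¹
  have heq : H = (P : Subgroup G) :=
    Subgroup.eq_of_le_of_card_ge hle (by rw [hH]; exact Nat.le_of_dvd hr.out.pos hP)
  rw [← heq]
  infer_instance

/-- For `r > 2n + 1` a Sylow `r`-subgroup is normal. -/
theorem normal_of_gt (hL : Lifts.{u} p k) {G : Type u} [Group G] [Finite G]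
    (hA : ¬ p ∣ Nat.card G) {n : ℕ} (f : G →* Matrix (Fin n) (Fin n) k)
    (hf : Function.Injective f) {r : ℕ} [hr : Fact r.Prime] (hr2 : 2 * n + 1 < r)
    (P : Sylow r G) : (P : Subgroup G).Normal := by
  classical
  obtain ⟨φ, hφ, hfaith, m, hm, hφ1⟩ := hL G hA n f hf
  refine H14.SmallDegree.sylow_normal φ hφ hfaith hφ1 ⟨by omega, Or.inr fun K hK Q => ?_⟩ P
  by_cases hd : r ∣ Nat.card K
  · by_contra hQ
    have hA' : ¬ p ∣ Nat.card K := fun h => hA (h.trans K.card_subgroup_dvd_card)
    obtain ⟨ψ, hψ, hψf, l, hl, hψ1⟩ := hL K hA' n (f.comp K.subtype)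
      (hf.comp K.subtype_injective)
    have h1 := Cfsg.Agent.S4503.result r hr.out hd hK (fun H hHn hH => by
      haveI := hHn
      exact hQ (normal_of_card_eq hK H hH Q)) ψ hψ hψf
    letI : Fintype K := Fintype.ofFinite K
    have h2 : H12.degree ψ = l := by
      have := H12.IsCharacter.apply_one_eq_degree hψ
      rw [hψ1] at this
      exact_mod_cast this.symm
    rw [H20.charDegree_eq_degree, h2] at h1
    omega
  · have h0 : (Q : Subgroup K) = ⊥ := by
      rw [← Subgroup.card_eq_one, Q.card_eq_multiplicity,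
        Nat.factorization_eq_zero_of_not_dvd hd, pow_zero]
    rw [h0]
    infer_instance

/-- The case `r = 2n + 1`, `r` dividing the order once. -/
theorem half_bound (hL : Lifts.{u} p k) {G : Type u} [Group G] [Finite G]
    (hA : ¬ p ∣ Nat.card G) {n : ℕ} (f : G →* Matrix (Fin n) (Fin n) k)
    (hf : Function.Injective f) {r : ℕ} [hr : Fact r.Prime] (hr2 : r = 2 * n + 1)
    (hd : r ∣ Nat.card G) (hsq : ¬ r ^ 2 ∣ Nat.card G) (P : Sylow r G)
    (hP : ¬ (P : Subgroup G).Normal) :
    2 * Nat.card G = Nat.card (Subgroup.center G) * (r * (r ^ 2 - 1)) := by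
  classical
  obtain ⟨φ, hφ, hfaith, m, hm, hφ1⟩ := hL G hA n f hf
  have hnn : ∀ H : Subgroup G, H.Normal → Nat.card H ≠ r := fun H hHn hH => by
    haveI := hHn
    exact hP (normal_of_card_eq hsq H hH P)
  letI : Fintype G := Fintype.ofFinite G
  have hdeg : charDegree φ = m := by
    rw [H20.charDegree_eq_degree]
    have := H12.IsCharacter.apply_one_eq_degree hφ
    rw [hφ1] at this
    exact_mod_cast this.symm
  have h1 := Cfsg.Agent.S4503.result r hr.out hd hsq hnn φ hφ hfaith
  rw [hdeg] at h1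
  obtain ⟨e⟩ := Cfsg.Agent.S4504.result r hr.out hd hsq hnn φ hφ hfaith (by rw [hdeg]; omega)
  have h2 := H37.card_PSL_two (F := ZMod r)
  rw [← Nat.card_congr e.toEquiv, Nat.card_zmod] at h2
  have hg : Nat.gcd 2 (r - 1) = 2 := Nat.gcd_eq_left (by omega)
  rw [hg] at h2
  rw [Subgroup.card_eq_card_quotient_mul_card_subgroup (Subgroup.center G), ← h2]
  ring

variable [IsAlgClosed k]

/-- The case `r ^ 2` dividing the order. -/
theorem normal_of_sq_aux (hL : Lifts.{u} p k) {n r : ℕ} [hrf : Fact r.Prime] (hrn : n + 1 ≤ r)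
    (N : ℕ) : ∀ (G : Type u) [Group G] [Finite G], Nat.card G = N → ¬ p ∣ Nat.card G →
      ∀ f : G →* Matrix (Fin n) (Fin n) k, Function.Injective f →
      (∀ y : G, orderOf y = r → ∀ a b : G, a * y = y * a → b * y = y * b → a * b = b * a) →
      r ^ 2 ∣ Nat.card G → ∀ P : Sylow r G, (P : Subgroup G).Normal := by
  induction N using Nat.strong_induction_on with
  | _ N ih =>
  intro G _ _ hN hA f hf hC hsq P
  classical
  letI : Fintype G := Fintype.ofFinite G
  by_contra hPn
  have hp : r.Prime := hrf.out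
  have hPcard : r ^ 2 ∣ Nat.card (P : Subgroup G) := by
    rw [P.card_eq_multiplicity]
    exact pow_dvd_pow r ((hp.pow_dvd_iff_le_factorization Nat.card_pos.ne').1 hsq)
  haveI : Nontrivial (P : Subgroup G) := by
    rw [← Finite.one_lt_card_iff_nontrivial]
    exact lt_of_lt_of_le (Nat.one_lt_pow two_ne_zero hp.one_lt) (Nat.le_of_dvd Nat.card_pos hPcard)
  haveI := P.isPGroup'.center_nontrivial
  obtain ⟨j, hj0, hj⟩ := (P.isPGroup'.to_subgroup (Subgroup.center (P : Subgroup G))).nontrivial_iff_card.1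
    inferInstance
  obtain ⟨z, hz⟩ := exists_prime_orderOf_dvd_card' (G := Subgroup.center (P : Subgroup G)) r
    (hj ▸ dvd_pow_self r hj0.ne')
  set x : G := ((z : (P : Subgroup G)) : G) with hxdef
  have hxP : x ∈ (P : Subgroup G) := (z : (P : Subgroup G)).2
  have hx : orderOf x = r := by rw [hxdef, Subgroup.orderOf_coe, Subgroup.orderOf_coe, hz]
  have hxc : ∀ y ∈ (P : Subgroup G), y * x = x * y := fun y hy =>
    congrArg Subtype.val (Subgroup.mem_center_iff.1 z.2 ⟨y, hy⟩)
  have hab : ∀ a ∈ (P : Subgroup G), ∀ b ∈ (P : Subgroup G), a * b = b * a :=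
    fun a ha b hb => hC x hx a b (hxc a ha) (hxc b hb)
  -- powers of order `r`
  have hpow : ∀ (Q : Subgroup G), IsPGroup r Q → ∀ y ∈ Q, y ≠ 1 →
      ∃ i : ℕ, orderOf (y ^ i) = r := by
    intro Q hQ y hy hy1
    obtain ⟨a, ha⟩ := hQ ⟨y, hy⟩
    obtain ⟨b, -, hb⟩ := (Nat.dvd_prime_pow hp).1
      (orderOf_dvd_of_pow_eq_one (congrArg Subtype.val ha) : orderOf y ∣ r ^ a)
    have hb0 : b ≠ 0 := by
      rintro rfl
      exact hy1 (orderOf_eq_one_iff.1 (by rw [hb, pow_zero]))
    refine ⟨r ^ (b - 1), ?_⟩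
    rw [orderOf_pow' _ (pow_ne_zero _ hp.ne_zero), hb,
      Nat.gcd_eq_right (pow_dvd_pow r (by omega)), Nat.pow_div (by omega) hp.pos,
      show b - (b - 1) = 1 by omega, pow_one]
  have hZ : (P : Subgroup G) ⊓ Subgroup.center G = ⊥ := by
    rw [eq_bot_iff]
    intro y hy
    by_contra hy1
    obtain ⟨i, hi⟩ := hpow _ P.isPGroup' y hy.1 hy1
    have hcomm : ∀ a b : G, a * b = b * a := fun a b => hC _ hi a b
      ((show Commute a y from Subgroup.mem_center_iff.1 hy.2 a).pow_right i)
      ((show Commute b y from Subgroup.mem_center_iff.1 hy.2 b).pow_right i)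
    exact hPn ⟨fun a ha g => by rwa [hcomm g a, mul_inv_cancel_right]⟩
  -- subgroups containing a Sylow subgroup
  have hsmall : ∀ K : Subgroup G, K ≠ ⊤ → ∀ Q : Sylow r G, (hQK : (Q : Subgroup G) ≤ K) →
      ((Q.subtype hQK : Sylow r K) : Subgroup K).Normal := by
    intro K hK Q hQK
    have hlt : Nat.card K < N := by
      rw [← hN]
      exact lt_of_le_of_ne (Nat.le_of_dvd Nat.card_pos K.card_subgroup_dvd_card)
        fun e => hK (Subgroup.eq_top_of_card_eq K e)
    refine ih _ hlt K rfl (fun h => hA (h.trans K.card_subgroup_dvd_card)) (f.comp K.subtype)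
      (hf.comp K.subtype_injective) (fun y hy a b ha hb => Subtype.ext ?_) ?_ (Q.subtype hQK)
    · exact hC y (by rw [Subgroup.orderOf_coe, hy]) a b (congrArg Subtype.val ha)
        (congrArg Subtype.val hb)
    · refine dvd_trans ?_ (Subgroup.card_dvd_of_le hQK)
      rw [Q.card_eq_multiplicity, ← P.card_eq_multiplicity]
      exact hPcard
  have hone : H14.FTBound.Sep (P : Subgroup G) := by
    intro g hg a b ha hb
    have hmap : ∀ c : G, (P : Subgroup G).map (MulAut.conj c).toMonoidHom =
        ((c • P : Sylow r G) : Subgroup G) := fun c => by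
      rw [Sylow.coe_subgroup_smul]
      rfl
    rw [hmap] at ha hb ⊢
    rw [hmap]
    have hin : ∀ c : G, Subgroup.centralizer ({g} : Set G) ⊓ ((c • P : Sylow r G) : Subgroup G) ≠ ⊥ →
        ((c • P : Sylow r G) : Subgroup G) ≤ Subgroup.centralizer ({g} : Set G) := by
      intro c hc
      obtain ⟨y, hy, hy1⟩ := (Subgroup.ne_bot_iff_exists_ne_one (H := _)).1 hc |>.elim
        fun y hy => (⟨(y : G), y.2, fun h => hy (Subtype.ext h)⟩ : ∃ y, y ∈
          Subgroup.centralizer ({g} : Set G) ⊓ ((c • P : Sylow r G) : Subgroup G) ∧ y ≠ 1)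
      obtain ⟨i, hi⟩ := hpow _ (c • P).isPGroup' y hy.2 hy1
      intro u hu
      rw [Subgroup.mem_centralizer_singleton_iff]
      have habc : ∀ u ∈ ((c • P : Sylow r G) : Subgroup G), Commute u y := by
        intro u hu
        have hy2 := hy.2
        rw [← hmap] at hu hy2
        obtain ⟨u', hu', rfl⟩ := hu
        obtain ⟨y', hy', rfl⟩ := hy2
        exact (show Commute u' y' from hab u' hu' y' hy').map (MulAut.conj c).toMonoidHom
      exact hC _ hi u g ((habc u hu).pow_right i)
        ((show Commute g y from (Subgroup.mem_centralizer_singleton_iff.1 hy.1).symm).pow_right i)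
    have hK : Subgroup.centralizer ({g} : Set G) ≠ ⊤ := fun h => hg (by
      rw [Subgroup.mem_center_iff]
      intro u
      exact Subgroup.mem_centralizer_singleton_iff.1 (h ▸ Subgroup.mem_top u))
    haveI := hsmall _ hK (a • P) (hin a ha)
    haveI := Sylow.unique_of_normal ((a • P).subtype (hin a ha)) inferInstance
    rw [Sylow.subtype_injective (hP := hin a ha) (hQ := hin b hb) (Subsingleton.elim _ _)]
  have hmax : ∀ M : Subgroup G, M.Normal → (P : Subgroup G) ≤ M → M = ⊤ := by
    intro M hMn hPM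
    haveI := hMn
    by_contra hne
    apply hPn
    haveI := hsmall M hne P hPM
    haveI := (P.subtype hPM).characteristic_of_normal inferInstance
    have hmap : ((P.subtype hPM : Sylow r M) : Subgroup M).map M.subtype = (P : Subgroup G) := by
      rw [Sylow.coe_subtype, Subgroup.map_subgroupOf_eq_of_le hPM]
    rw [← hmap]
    infer_instance
  obtain ⟨φ, hφ, hfaith, m, hm, hφ1⟩ := hL G hA n f hf
  obtain ⟨c, hc⟩ := H12.IsCharacter.exists_mult hφ
  have hφv : ∀ g, φ g = ∑ χ : IrrCharacter G, (c χ : ℂ) * (χ : G → ℂ) g := fun g => by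
    rw [hc]; simp
  have hdeg : m = ∑ χ : IrrCharacter G, c χ * H12.degree (χ : G → ℂ) := by
    have h := hφv 1
    simp only [hφ1, H12.irr_apply_one] at h
    exact_mod_cast h
  -- a constituent of degree larger than one
  obtain ⟨χ, hχc, hχ1⟩ : ∃ χ : IrrCharacter G, c χ ≠ 0 ∧ (χ : G → ℂ) 1 ≠ 1 := by
    by_contra hno
    push Not at hno
    apply hPn
    have hcomm : ∀ a b : G, a * b = b * a := by
      intro a b
      refine mul_inv_eq_one.1 (hfaith _ ?_)
      rw [hφv, hφv]
      refine Finset.sum_congr rfl fun χ _ => ?_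
      by_cases hcx : c χ = 0
      · simp [hcx]
      congr 1
      have h1 := hno χ hcx
      obtain ⟨l, ρ, -, hρ⟩ := χ.2
      rw [← hρ, Representation.char_one, Module.finrank_fin_fun, Nat.cast_eq_one] at h1
      subst h1
      have hs : ∀ g : G, ∃ t : ℂ, ρ g = t • 1 := fun g => ⟨ρ g (fun _ => 1) 0, by
        apply LinearMap.ext
        intro v
        funext i
        rw [Fin.fin_one_eq_zero i]
        have hv : v = v 0 • (fun _ => (1 : ℂ)) := by
          funext i; simp [Fin.fin_one_eq_zero i]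
        conv_lhs => rw [hv, map_smul]
        simp [mul_comm]⟩
      rw [← hρ]
      show LinearMap.trace ℂ _ (ρ (a * b * (b * a)⁻¹)) = LinearMap.trace ℂ _ (ρ 1)
      congr 1
      obtain ⟨s, hs'⟩ := hs a
      have hswap : ρ (a * b) = ρ (b * a) := by
        rw [map_mul, map_mul, hs', smul_mul_assoc, one_mul, mul_smul_comm, mul_one]
      rw [map_mul, hswap, ← map_mul, mul_inv_cancel]
    exact ⟨fun a ha g => by rwa [hcomm g a, mul_inv_cancel_right]⟩
  have hbound := H14.FTBound.card_lt_sq (P : Subgroup G) hab hZ hone χ.2 hχ1 hmax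
  have hle : H12.degree (χ : G → ℂ) ≤ n := by
    refine le_trans ?_ hm
    rw [hdeg]
    exact (Nat.le_mul_of_pos_left _ (Nat.pos_of_ne_zero hχc)).trans
      (Finset.single_le_sum (f := fun χ : IrrCharacter G => c χ * H12.degree (χ : G → ℂ))
        (fun i _ => Nat.zero_le _) (Finset.mem_univ χ))
  rw [H12.irr_apply_one, Complex.natCast_re] at hbound
  have h3 : Nat.card (P : Subgroup G) < (1 + H12.degree (χ : G → ℂ)) ^ 2 := by exact_mod_cast hbound
  have h4 : r ^ 2 ≤ Nat.card (P : Subgroup G) := Nat.le_of_dvd Nat.card_pos hPcard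
  have h5 : (1 + H12.degree (χ : G → ℂ)) ^ 2 ≤ r ^ 2 := Nat.pow_le_pow_left (by omega) 2
  omega

theorem normal_of_sq (hL : Lifts.{u} p k) {G : Type u} [Group G] [Finite G]
    (hA : ¬ p ∣ Nat.card G) {n : ℕ} (f : G →* Matrix (Fin n) (Fin n) k)
    (hf : Function.Injective f) {r : ℕ} [Fact r.Prime] (hrn : n + 1 ≤ r)
    (hC : ∀ y : G, orderOf y = r → ∀ a b : G, a * y = y * a → b * y = y * b → a * b = b * a)
    (hsq : r ^ 2 ∣ Nat.card G) (P : Sylow r G) : (P : Subgroup G).Normal :=
  normal_of_sq_aux hL hrn _ G rfl hA f hf hC hsq P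

end H13.CT
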